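import Groth.Agent.MultUnipLib.GroupLike
import Groth.Agent.UnipHopfLib.Socle
import Groth.Agent.UnipSplitLib.Main
import Groth.Agent.HopfFFLib.Normal.Correspondence

/-!
The retraction over an algebraically closed field.
-/

set_option autoImplicit false

noncomputable section

universe u

open TensorProduct ComodLib

namespace Groth.Agent.MultUnip

variable {k : Type u} [Field k] {A : Type u} [CommRing A] [HopfAlgebra k A]
  {C : Type u} [CommRing C] [HopfAlgebra k C]
  {H : Type u} [CommRing H] [HopfAlgebra k H] {M : Type u} [CommGroup M]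
  {q : A →ₐc[k] H} {β : Module.Basis M k H} {ψ : C →ₐc[k] A}

theorem eq_one_of_groupLike {g : C} (hg : IsGroupLikeElem k g) (hK : ∀ c : C, ∃ s, c ∈ UnipHopf.K k C s) :
    g = 1 := by
  obtain ⟨s, hs⟩ := hK g
  by_contra hne
  have key : ∀ s, g ∉ UnipHopf.K k C s := by
    intro s
    induction s with
    | zero =>
      intro h0
      rw [UnipHopf.K_zero, Submodule.mem_bot] at h0
      have := hg.counit_eq_one
      rw [h0, map_zero] at this
      exact zero_ne_one this
    | succ s ih =>
      intro h0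
      obtain ⟨φ, hφ⟩ := Module.forall_dual_apply_eq_zero_iff k (g - 1) |>.not.2 (sub_ne_zero.2 hne) |> not_forall.1
      let f : C →ₗ[k] k := φ - φ 1 • CoalgebraStruct.counit (R := k)
      have h1 := UnipHopf.mem_K_succ.1 h0 (WithConv.toConv f) (by simp [f, Bialgebra.counit_one])
      rw [smul_eq] at h1
      have h2 : f g • g ∈ UnipHopf.K k C s := by
        have h3 : slice f (CoalgebraStruct.comul (R := k) g) = f g • g := by
          rw [hg.comul_eq_tmul_self, slice_tmul]
        rw [← h3]
        exact h1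
      have hfg : f g ≠ 0 := by
        simp only [f, LinearMap.sub_apply, LinearMap.smul_apply, hg.counit_eq_one, smul_eq_mul, mul_one]
        rwa [← map_sub]
      refine ih ?_
      have := Submodule.smul_mem _ (f g)⁻¹ h2
      rwa [smul_smul, inv_mul_cancel₀ hfg, one_smul] at this
  exact key s hs

theorem CExt.groupLike_unique (h : CExt q β ψ) (hK : ∀ c : C, ∃ s, c ∈ UnipHopf.K k C s) {m : M} {g g' : A}
    (hm : g ∈ WR q β m) (hm' : g' ∈ WR q β m) (hg : IsGroupLikeElem k g) (hg' : IsGroupLikeElem k g') : g = g' := by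
  have hS : IsGroupLikeElem k (HopfAlgebraStruct.antipode (R := k) g') := hg'.antipode
  have h1 : g * HopfAlgebraStruct.antipode (R := k) g' ∈ WR q β 1 := by
    rw [← mul_inv_cancel m]
    exact h.mul_mem_WR hm (h.antipode_mem_WR (h.WL_of_WR' hm'))
  obtain ⟨c, hc⟩ := h.coinv _ h1
  have hgl : IsGroupLikeElem k c := by
    have hprod := hg.mul hS
    rw [← hc] at hprod
    refine ⟨?_, ?_⟩
    · rw [← CoalgHomClass.counit_comp_apply ψ]; exact hprod.counit_eq_one
    · have hi : Function.Injective (TensorProduct.map (ψ : C →ₗ[k] A) (ψ : C →ₗ[k] A)) :=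
        TensorProduct.map_injective_of_flat_flat' _ _ h.inj h.inj
      apply hi
      rw [CoalgHomClass.map_comp_comul_apply ψ, TensorProduct.map_tmul]
      exact hprod.comul_eq_tmul_self
  rw [eq_one_of_groupLike hgl hK, map_one] at hc
  have h2 : g' * HopfAlgebraStruct.antipode (R := k) g' = 1 := hg'.mul_antipode_cancel
  calc g = g * (g' * HopfAlgebraStruct.antipode (R := k) g') := by rw [h2, mul_one]
    _ = g * HopfAlgebraStruct.antipode (R := k) g' * g' := by ring
    _ = g' := by rw [← hc, one_mul]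

/-- The retraction, and generation by group-like elements. -/
theorem CExt.exists_retraction [IsAlgClosed k] [IsReduced C] [Nontrivial C] (h : CExt q β ψ)
    (hK : ∀ c : C, ∃ s, c ∈ UnipHopf.K k C s) :
    (∃ r : A →ₐc[k] C, r.comp ψ = BialgHom.id k C) ∧
      ∀ a : A, a ∈ Submodule.span k {x : A | ∃ c g, IsGroupLikeElem k g ∧ ψ c * g = x} := by
  classical
  choose g hgm hg using fun m => h.exists_groupLike hK m
  let Sₐ : A →ₐ[k] A := HopfAlgebra.antipodeAlgHom k A
  have hSg : ∀ m, Sₐ (g m) * g m = 1 := fun m => (hg m).antipode_mul_cancel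
  have hgmul : ∀ m n, g (m * n) = g m * g n := fun m n =>
    h.groupLike_unique hK (hgm _) (h.mul_mem_WR (hgm m) (hgm n)) (hg _) ((hg m).mul (hg n))
  have hg1 : g 1 = 1 := h.groupLike_unique hK (hgm 1) (by
    rw [mem_WR, map_one, h.one]; rfl) (hg 1) IsGroupLikeElem.one
  let Gl : H →ₗ[k] A := β.constr k fun m => Sₐ (g m)
  have hGl : ∀ m, Gl (β m) = Sₐ (g m) := fun m => β.constr_basis k _ m
  have hGl1 : Gl 1 = 1 := by rw [← h.one, hGl, hg1, map_one]
  let G : H →ₐ[k] A := AlgHom.ofLinearMap Gl hGl1 fun x y => by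
    have : (LinearMap.mul k H).compr₂ Gl = (LinearMap.mul k A).compl₁₂ Gl Gl := β.ext fun m => β.ext fun n => by
      simp only [LinearMap.compr₂_apply, LinearMap.compl₁₂_apply, LinearMap.mul_apply', ← h.mul, hGl, hgmul,
        map_mul]
    exact LinearMap.congr_fun₂ this x y
  have hGβ : ∀ m, G (β m) = Sₐ (g m) := hGl
  let T : A →ₐ[k] A := (WithConv.toConv (G.comp (q : A →ₐ[k] H)) * WithConv.toConv (AlgHom.id k A)).ofConv
  have hT : ∀ {m a}, a ∈ WR q β m → T a = Sₐ (g m) * a := by
    intro m a ha
    show (WithConv.toConv (G.comp (q : A →ₐ[k] H)) * WithConv.toConv (AlgHom.id k A)) a = _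
    rw [AlgHom.convMul_apply]
    rw [show (WithConv.toConv (G.comp (q : A →ₐ[k] H))).ofConv = G.comp (q : A →ₐ[k] H) from rfl,
      show (WithConv.toConv (AlgHom.id k A)).ofConv = AlgHom.id k A from rfl]
    have key : ∀ z : A ⊗[k] A, Algebra.TensorProduct.lift (G.comp (q : A →ₐ[k] H)) (AlgHom.id k A)
        (fun _ _ => Commute.all _ _) z =
        LinearMap.mul' k A (LinearMap.rTensor A G.toLinearMap (LinearMap.rTensor A (q : A →ₐ[k] H).toLinearMap z)) := by
      intro z
      induction z using TensorProduct.induction_on with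
      | zero => simp
      | add x y hx hy => simp only [map_add, hx, hy]
      | tmul x y => simp
    refine (key _).trans ?_
    rw [← lamL_apply, (mem_WL q β).1 (h.WL_of_WR' ha), LinearMap.rTensor_tmul, LinearMap.mul'_apply]
    exact congrArg (· * a) (hGβ m)
  have hdec : ∀ a : A, a ∈ Submodule.span k {x : A | ∃ c m, ψ c * g m = x} := by
    intro a
    obtain ⟨F, hF⟩ := h.exists_sum_prR a
    rw [← hF F subset_rfl]
    refine sum_mem fun m _ => Submodule.subset_span ?_
    have hb := h.prR_mem m a
    have h1 : Sₐ (g m) * prR q β m a ∈ WR q β 1 := by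
      rw [← inv_mul_cancel m]
      exact h.mul_mem_WR (h.antipode_mem_WR (h.WL_of_WR' (hgm m))) hb
    obtain ⟨c, hc⟩ := h.coinv _ h1
    refine ⟨c, m, ?_⟩
    rw [hc, mul_right_comm, hSg, one_mul]
  have hTψ : ∀ c, T (ψ c) = ψ c := fun c => by
    rw [hT (h.comp c).1, hg1, map_one, one_mul]
  have hTg : ∀ m, T (g m) = 1 := fun m => by rw [hT (hgm m)]; exact hSg m
  have hrange : ∀ a, T a ∈ (ψ : C →ₐ[k] A).range := by
    intro a
    induction hdec a using Submodule.span_induction with
    | mem x hx =>
      obtain ⟨c, m, rfl⟩ := hx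
      exact ⟨c, by rw [map_mul, hTψ, hTg, mul_one]; rfl⟩
    | zero => rw [map_zero]; exact zero_mem _
    | add x y _ _ hx hy => rw [map_add]; exact add_mem hx hy
    | smul t x _ hx => rw [map_smul]; exact Subalgebra.smul_mem _ hx t
  let r : A →ₐ[k] C := (AlgEquiv.ofInjective (ψ : C →ₐ[k] A) h.inj).symm.toAlgHom.comp (T.codRestrict _ hrange)
  have hr : ∀ a, ψ (r a) = T a := fun a =>
    congrArg Subtype.val ((AlgEquiv.ofInjective (ψ : C →ₐ[k] A) h.inj).apply_symm_apply
      (T.codRestrict _ hrange a))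
  have hrψ : ∀ c, r (ψ c) = c := fun c => h.inj (by rw [hr, hTψ])
  have hrg : ∀ m, r (g m) = 1 := fun m => h.inj (by rw [hr, hTg, map_one])
  refine ⟨⟨BialgHom.ofAlgHom r (AlgHom.ext fun a => ?_) (AlgHom.ext fun a => ?_), BialgHom.ext hrψ⟩,
    fun a => Submodule.span_mono (R := k) (?_ : {x : A | ∃ c m, ψ c * g m = x} ⊆ _) (hdec a)⟩
  case refine_3 => exact fun x ⟨c, m, hx⟩ => ⟨c, g m, hg m, hx⟩
  · show CoalgebraStruct.counit (R := k) (r a) = CoalgebraStruct.counit (R := k) a
    induction hdec a using Submodule.span_induction with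
    | mem x hx =>
      obtain ⟨c, m, rfl⟩ := hx
      rw [map_mul, hrψ, hrg, mul_one, Bialgebra.counit_mul, (hg m).counit_eq_one, mul_one,
        CoalgHomClass.counit_comp_apply ψ]
    | zero => simp
    | add x y _ _ hx hy => simp only [map_add, hx, hy]
    | smul t x _ hx => simp only [map_smul, hx]
  · show Algebra.TensorProduct.map r r (CoalgebraStruct.comul (R := k) a) = CoalgebraStruct.comul (R := k) (r a)
    induction hdec a using Submodule.span_induction with
    | mem x hx =>
      obtain ⟨c, m, rfl⟩ := hx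
      rw [Bialgebra.comul_mul, map_mul, (hg m).comul_eq_tmul_self, Algebra.TensorProduct.map_tmul, hrg,
        ← Algebra.TensorProduct.one_def, mul_one, map_mul, hrψ, hrg, mul_one, ← CoalgHomClass.map_comp_comul_apply ψ]
      generalize CoalgebraStruct.comul (R := k) c = z
      induction z using TensorProduct.induction_on with
      | zero => simp
      | add p s hp hs => simp only [map_add, hp, hs]
      | tmul p s => simp [hrψ]
    | zero => simp
    | add x y _ _ hx hy => simp only [map_add, hx, hy]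
    | smul t x _ hx => simp only [map_smul, hx]

theorem CExt.of_ker (ψ : C →ₐc[k] A) (hψ : Function.Injective ψ) (hconn : ∀ e : C, IsIdempotentElem e → e = 0 ∨ e = 1)
    (q : A →ₐc[k] H) (hq : Function.Surjective q)
    (hker : RingHom.ker (q : A →+* H) = Ideal.map (ψ : C →+* A) (RingHom.ker (Bialgebra.counitAlgHom k C)))
    (e : H ≃ₐc[k] MonoidAlgebra k M) :
    CExt q ((MonoidAlgebra.basis M k).map e.toAlgEquiv.symm.toLinearEquiv) ψ := by
  let β := (MonoidAlgebra.basis M k).map e.toAlgEquiv.symm.toLinearEquiv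
  have hβ : ∀ m, β m = e.symm (MonoidAlgebra.single m 1) := fun m => by simp [β]; rfl
  have h1 : β 1 = 1 := by rw [hβ, ← MonoidAlgebra.one_def, map_one]
  have hqψ : ∀ c, q (ψ c) = algebraMap k H (CoalgebraStruct.counit (R := k) c) := fun c => by
    rw [← sub_eq_zero, ← AlgHomClass.commutes q, ← map_sub]
    show ψ c - algebraMap k A _ ∈ RingHom.ker (q : A →+* H)
    rw [hker, ← AlgHomClass.commutes ψ, ← map_sub]
    exact Ideal.mem_map_of_mem (ψ : C →+* A) (RingHom.mem_ker.2 (by simp))
  refine
    { one := h1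
      mul := fun m n => by rw [hβ, hβ, hβ, ← map_mul, MonoidAlgebra.single_mul_single, mul_one]
      gl := fun m => ?_
      surj := hq
      inj := hψ
      conn := hconn
      comp := fun c => ⟨?_, ?_⟩
      coinv := fun a ha => ?_ }
  · rw [hβ, ← CoalgHomClass.map_comp_comul_apply e.symm]
    simp
  · show lamR q (ψ c) = ψ c ⊗ₜ[k] β 1
    rw [lamR_apply, ← CoalgHomClass.map_comp_comul_apply ψ, h1]
    have key : ∀ z : C ⊗[k] C, LinearMap.lTensor A (q : A →ₐ[k] H).toLinearMap
        (TensorProduct.map (ψ : C →ₗ[k] A) (ψ : C →ₗ[k] A) z) =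
        ψ (slice (CoalgebraStruct.counit (R := k)) z) ⊗ₜ[k] (1 : H) := fun z => by
      induction z using TensorProduct.induction_on with
      | zero => simp
      | add x y hx hy => simp only [map_add, TensorProduct.add_tmul, hx, hy]
      | tmul x y =>
        rw [TensorProduct.map_tmul, LinearMap.lTensor_tmul, slice_tmul, map_smul, TensorProduct.smul_tmul,
          show (q : A →ₐ[k] H).toLinearMap ((ψ : C →ₗ[k] A) y) = _ from hqψ y, Algebra.algebraMap_eq_smul_one]
        rfl
    rw [key]
    exact congrArg (fun x => ψ x ⊗ₜ[k] (1 : H)) (slice_counit (V := C) c)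
  · show lamL q (ψ c) = β 1 ⊗ₜ[k] ψ c
    rw [lamL_apply, ← CoalgHomClass.map_comp_comul_apply ψ, h1]
    have key : ∀ z : C ⊗[k] C, LinearMap.rTensor A (q : A →ₐ[k] H).toLinearMap
        (TensorProduct.map (ψ : C →ₗ[k] A) (ψ : C →ₗ[k] A) z) =
        (1 : H) ⊗ₜ[k] ψ (TensorProduct.lid k C (LinearMap.rTensor C (CoalgebraStruct.counit (R := k)) z)) := fun z => by
      induction z using TensorProduct.induction_on with
      | zero => simp
      | add x y hx hy => simp only [map_add, TensorProduct.tmul_add, hx, hy]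
      | tmul x y =>
        rw [TensorProduct.map_tmul, LinearMap.rTensor_tmul, LinearMap.rTensor_tmul, TensorProduct.lid_tmul, map_smul,
          ← TensorProduct.smul_tmul, show (q : A →ₐ[k] H).toLinearMap ((ψ : C →ₗ[k] A) x) = _ from hqψ x,
          Algebra.algebraMap_eq_smul_one]
        rfl
    rw [key, Coalgebra.rTensor_counit_comul, TensorProduct.lid_tmul, one_smul]
  · let J := Ideal.map (ψ : C →+* A) (RingHom.ker (Bialgebra.counitAlgHom k C))
    haveI : J.IsHopfIdeal k := UnipSplit.isHopfIdeal_map ψ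
    have hle : J ≤ SGA3.augIdealSpan k A (ψ : C →ₐ[k] A).range := Ideal.map_le_iff_le_comap.2 fun c hc =>
      Ideal.subset_span ⟨⟨c, rfl⟩, by
        show CoalgebraStruct.counit (R := k) (ψ c) = 0
        rw [CoalgHomClass.counit_comp_apply]; exact hc⟩
    let e' : A ⧸ J →ₐ[k] H := Ideal.Quotient.liftₐ J (q : A →ₐ[k] H) fun x hx => by
      rw [show J = _ from hker.symm] at hx; exact hx
    have he : Function.Injective e' := (RingHom.injective_iff_ker_eq_bot _).2 <| eq_bot_iff.2 fun x hx => by
      obtain ⟨y, rfl⟩ := Ideal.Quotient.mk_surjective x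
      refine Ideal.Quotient.eq_zero_iff_mem.2 ?_
      rw [show J = _ from hker.symm]
      exact hx
    have hmem : a ∈ HopfFF.coinv k J := by
      rw [HopfFF.mem_coinv]
      show _ = a ⊗ₜ[k] (1 : A ⧸ J)
      apply Module.Flat.lTensor_preserves_injective_linearMap (M := A) e'.toLinearMap he
      rw [LinearMap.lTensor_tmul, show e'.toLinearMap (1 : A ⧸ J) = β 1 by rw [h1]; exact map_one e',
        ← (mem_WR q β).1 ha, lamR_apply]
      generalize CoalgebraStruct.comul (R := k) a = z
      induction z using TensorProduct.induction_on with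
      | zero => simp
      | add x y hx hy => simp only [map_add, hx, hy]
      | tmul x y => rfl
    obtain ⟨c, hc⟩ := HopfFF.coinv_le_of_le_augSpan (HopfFF.isSubHopf_range ψ) hle hmem
    exact ⟨c, hc⟩

end Groth.Agent.MultUnip
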