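import Groth.Agent.MultUnipLib.Retract
import Groth.Agent.UnipHopfLib.BaseChange
import Groth.Agent.DiagHopfLib.FieldDesc
import Groth.Agent.DiagHopfLib.Groups
import Groth.Agent.CohenLib.RegularField
import Groth.Agent.HopfFFLib.Nilradical
import Groth.Agent.HopfFFLib.Idem
import Groth.Prelude.Def_SGA3b
import Mathlib.RingTheory.Bialgebra.TensorProduct
import Mathlib.FieldTheory.Galois.Infinite
import Mathlib.FieldTheory.Perfect

/-!
The retraction over a perfect field.
-/

set_option autoImplicit false

noncomputable section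

universe u

open TensorProduct ComodLib

namespace Groth.Agent.MultUnip

variable {k : Type u} [Field k]

/-- Elements fixed by all automorphisms of the Galois closure are rational. -/
theorem exists_of_fixed {L : Type u} [Field L] [Algebra k L] [IsGalois k L] {V : Type u} [CommRing V] [Algebra k V]
    {z : L ⊗[k] V} (h : ∀ σ : L ≃ₐ[k] L, Algebra.TensorProduct.map σ.toAlgHom (AlgHom.id k V) z = z) :
    ∃ v : V, (1 : L) ⊗ₜ[k] v = z := by
  classical
  let b := Module.Free.chooseBasis k V
  let B := Algebra.TensorProduct.basis L b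
  have hmap : ∀ (σ : L ≃ₐ[k] L) (w : L ⊗[k] V) i,
      B.repr (Algebra.TensorProduct.map σ.toAlgHom (AlgHom.id k V) w) i = σ (B.repr w i) := by
    intro σ w i
    induction w using TensorProduct.induction_on with
    | zero => simp
    | add x y hx hy => simp [hx, hy]
    | tmul x v => simp [B, Algebra.smul_def]
  have hk : ∀ i, ∃ c : k, algebraMap k L c = B.repr z i := fun i => by
    have h1 : B.repr z i ∈ (⊥ : IntermediateField k L) :=
      (InfiniteGalois.mem_bot_iff_fixed _).2 fun σ => by rw [← hmap, h σ]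
    rwa [IntermediateField.mem_bot] at h1
  choose c hc using hk
  refine ⟨∑ i ∈ (B.repr z).support, c i • b i, ?_⟩
  conv_rhs => rw [← B.linearCombination_repr z, Finsupp.linearCombination_apply, Finsupp.sum]
  rw [TensorProduct.tmul_sum]
  refine Finset.sum_congr rfl fun i _ => ?_
  rw [Algebra.TensorProduct.basis_apply, TensorProduct.smul_tmul', TensorProduct.tmul_smul,
    TensorProduct.smul_tmul', ← hc, smul_eq_mul, mul_one, Algebra.algebraMap_eq_smul_one]

section extend

variable {L : Type u} [Field L] [Algebra k L] {A : Type u} [CommRing A] [HopfAlgebra k A]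

theorem incSq_injective : Function.Injective (UnipHopf.incSq (k := k) (k' := L) (A := A)) := by
  let d : (L ⊗[k] A) ⊗[L] (L ⊗[k] A) →ₐ[L] L ⊗[k] (A ⊗[k] A) :=
    Algebra.TensorProduct.lift (Algebra.TensorProduct.map (AlgHom.id L L) Algebra.TensorProduct.includeLeft)
      (Algebra.TensorProduct.map (AlgHom.id L L) Algebra.TensorProduct.includeRight) fun _ _ => Commute.all _ _
  have hd : ∀ z : A ⊗[k] A, d (UnipHopf.incSq (k' := L) z) = (1 : L) ⊗ₜ[k] z := fun z => by
    induction z using TensorProduct.induction_on with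
    | zero => simp
    | add x y hx hy => simp only [map_add, TensorProduct.tmul_add, hx, hy]
    | tmul x y => simp [d]
  intro x y h
  have h1 := (hd x).symm.trans ((congrArg d h).trans (hd y))
  exact Algebra.TensorProduct.includeRight_injective (algebraMap k L).injective h1

theorem map_isGroupLike (σ : L →ₐ[k] L) {g : L ⊗[k] A} (hg : IsGroupLikeElem L g) :
    IsGroupLikeElem L (Algebra.TensorProduct.map σ (AlgHom.id k A) g) :=
  DiagHopf.groupLike_of_isGL ((DiagHopf.isGL_of_groupLike hg.comul_eq_tmul_self hg.counit_eq_one).push σ)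

end extend

/-- The splitting over a perfect field, with uniqueness. -/
theorem existsUnique_retraction [PerfectField k] {A C : Type u} [CommRing A] [HopfAlgebra k A] [Algebra.FiniteType k A]
    [CommRing C] [HopfAlgebra k C] [Algebra.FiniteType k C] [Algebra.FormallySmooth k C]
    (hC : HopfRep.IsUnipotent k C) (ψ : C →ₐc[k] A) (hψ : Function.Injective ψ)
    (J : Ideal A) [J.IsHopfIdeal k] (hJ : J = Ideal.map (ψ : C →+* A) (RingHom.ker (Bialgebra.counitAlgHom k C)))
    (hH : SGA3b.IsMultTypeConst k (A ⧸ J)) (hU : ∀ e : C, IsIdempotentElem e → e = 0 ∨ e = 1) :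
    ∃! r : A →ₐc[k] C, r.comp ψ = BialgHom.id k C := by
  classical
  let L := AlgebraicClosure k
  haveI : IsGalois k L := {}
  -- the subgroup splits over the closure
  obtain ⟨N, _, ⟨e⟩⟩ : ∃ (N : Type u) (_ : CommGroup N), Nonempty ((L ⊗[k] (A ⧸ J)) ≃ₐc[L] MonoidAlgebra L N) := by
    obtain ⟨T, _, _, hT, N, _, ⟨e⟩⟩ := hH
    obtain ⟨E⟩ := DiagHopf.exists_split_of_bialgEquiv e
    haveI := hT
    haveI : Nontrivial T := by
      have h0 := Module.FaithfullyFlat.submodule_ne_top (R := k) (M := T)
        (Ideal.bot_isMaximal : (⊥ : Ideal k).IsMaximal)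
      rw [Submodule.bot_smul] at h0
      exact (Submodule.nontrivial_iff k).1 ⟨⟨⊥, ⊤, h0⟩⟩
    obtain ⟨m, hm⟩ := Ideal.exists_maximal T
    letI := Ideal.Quotient.field m
    obtain ⟨E', -⟩ := TorusField.exists_split_push E (Ideal.Quotient.mkₐ k m)
    haveI : Algebra.FiniteType k (A ⧸ J) := inferInstance
    obtain ⟨E''⟩ := DiagHopf.exists_split_algClosure' E' L
    exact ⟨N, inferInstance, DiagHopf.exists_bialgEquiv E''⟩
  -- the extended maps
  let ψL : L ⊗[k] C →ₐc[L] L ⊗[k] A := Bialgebra.TensorProduct.map (BialgHom.id L L) ψ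
  let qJ : A →ₐc[k] A ⧸ J := Bialgebra.Quotient.mkBialgHom (R := k) J
  let qL : L ⊗[k] A →ₐc[L] L ⊗[k] (A ⧸ J) := Bialgebra.TensorProduct.map (BialgHom.id L L) qJ
  have hψL : Function.Injective ψL := by
    have h1 : ⇑ψL = ⇑(LinearMap.lTensor L (ψ : C →ₐ[k] A).toLinearMap) := funext fun z => by
      induction z using TensorProduct.induction_on with
      | zero => simp
      | add x y hx hy => simp only [map_add, hx, hy]
      | tmul x y => rfl
    rw [h1]
    exact Module.Flat.lTensor_preserves_injective_linearMap _ hψ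
  have hqL : Function.Surjective qL := by
    intro z
    induction z using TensorProduct.induction_on with
    | zero => exact ⟨0, map_zero _⟩
    | add x y hx hy =>
      obtain ⟨a, rfl⟩ := hx; obtain ⟨b, rfl⟩ := hy
      exact ⟨a + b, map_add _ _ _⟩
    | tmul x y =>
      obtain ⟨y, rfl⟩ := Ideal.Quotient.mk_surjective y
      exact ⟨x ⊗ₜ y, rfl⟩
  have hker : RingHom.ker (qL : L ⊗[k] A →+* L ⊗[k] (A ⧸ J)) =
      Ideal.map (ψL : L ⊗[k] C →+* L ⊗[k] A) (RingHom.ker (Bialgebra.counitAlgHom L (L ⊗[k] C))) := by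
    apply le_antisymm
    · intro z hz
      have h1 : z ∈ RingHom.ker (Algebra.TensorProduct.map (AlgHom.id k L) (qJ : A →ₐ[k] A ⧸ J)) := by
        rw [RingHom.mem_ker] at hz ⊢
        rw [← hz]
        clear hz
        induction z using TensorProduct.induction_on with
        | zero => simp
        | add x y hx hy => simp only [map_add, hx, hy]
        | tmul x y => rfl
      rw [Algebra.TensorProduct.lTensor_ker (A := L) (qJ : A →ₐ[k] A ⧸ J) Ideal.Quotient.mk_surjective,
        show RingHom.ker (qJ : A →ₐ[k] A ⧸ J) = J from Ideal.mk_ker, hJ] at h1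
      refine Ideal.map_le_iff_le_comap.2 (Ideal.map_le_iff_le_comap.2 fun c hc => ?_) h1
      have h2 : (1 : L) ⊗ₜ[k] c ∈ RingHom.ker (Bialgebra.counitAlgHom L (L ⊗[k] C)) := by
        rw [RingHom.mem_ker]
        show CoalgebraStruct.counit (R := L) ((1 : L) ⊗ₜ[k] c) = 0
        rw [TensorProduct.counit_tmul, show CoalgebraStruct.counit (R := k) c = 0 from hc, zero_smul]
      exact Ideal.mem_map_of_mem (ψL : L ⊗[k] C →+* L ⊗[k] A) h2
    · refine Ideal.map_le_iff_le_comap.2 fun c hc => ?_
      show qL (ψL c) = 0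
      have h1 : qL (ψL c) = algebraMap L _ (CoalgebraStruct.counit (R := L) c) := by
        clear hc
        induction c using TensorProduct.induction_on with
        | zero => simp
        | add x y hx hy => simp only [map_add, hx, hy]
        | tmul x y =>
          show x ⊗ₜ[k] Ideal.Quotient.mk J (ψ y) = _
          have h2 : Ideal.Quotient.mk J (ψ y) = algebraMap k _ (CoalgebraStruct.counit (R := k) y) := by
            rw [← Ideal.Quotient.mk_algebraMap, Ideal.Quotient.eq, ← AlgHomClass.commutes ψ, ← map_sub, hJ]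
            exact Ideal.mem_map_of_mem (ψ : C →+* A) (RingHom.mem_ker.2 (by simp))
          rw [h2, TensorProduct.counit_tmul, Algebra.TensorProduct.algebraMap_apply, Algebra.algebraMap_eq_smul_one,
            ← TensorProduct.smul_tmul]
          rfl
      rw [h1, show CoalgebraStruct.counit (R := L) c = 0 from hc, map_zero]
  haveI : IsNoetherianRing (L ⊗[k] C) := Algebra.FiniteType.isNoetherianRing L _
  haveI : IsRegularRing (L ⊗[k] C) := CohenLib.isRegularRing_of_formallySmooth (k := L)
  haveI : IsReduced (L ⊗[k] C) := HopfFF.isReduced_of_isRegularRing _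
  haveI : Nontrivial (L ⊗[k] C) := (Bialgebra.counitAlgHom L (L ⊗[k] C)).toRingHom.domain_nontrivial
  let σA : (L ≃ₐ[k] L) → L ⊗[k] A →ₐ[k] L ⊗[k] A := fun σ => Algebra.TensorProduct.map σ.toAlgHom (AlgHom.id k A)
  let σC : (L ≃ₐ[k] L) → L ⊗[k] C →ₐ[k] L ⊗[k] C := fun σ => Algebra.TensorProduct.map σ.toAlgHom (AlgHom.id k C)
  have hconn : ∀ f : L ⊗[k] C, IsIdempotentElem f → f = 0 ∨ f = 1 := by
    suffices h0 : ∀ f : L ⊗[k] C, IsIdempotentElem f → CoalgebraStruct.counit (R := L) f = 0 → f = 0 by
      intro f hf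
      have h1 : IsIdempotentElem (Bialgebra.counitAlgHom L (L ⊗[k] C) f) := hf.map _
      rcases IsIdempotentElem.iff_eq_zero_or_one.1 h1 with h | h
      · exact Or.inl (h0 f hf h)
      · refine Or.inr (sub_eq_zero.1 (h0 (1 - f) hf.one_sub ?_)).symm
        rw [map_sub, Bialgebra.counit_one, show CoalgebraStruct.counit (R := L) f = 1 from h, sub_self]
    intro f hf hεf
    have hfin : (Set.range fun σ : L ≃ₐ[k] L => σC σ f).Finite :=
      (HopfFF.finite_idempotents (L ⊗[k] C)).subset (by rintro _ ⟨σ, rfl⟩; exact hf.map _)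
    let S := hfin.toFinset
    let P := ∏ s ∈ S, (1 - s)
    have hS : ∀ τ : L ≃ₐ[k] L, S.image (σC τ) = S := fun τ => by
      apply Finset.coe_injective
      rw [Finset.coe_image, hfin.coe_toFinset, ← Set.range_comp]
      refine Set.ext fun x => ⟨?_, ?_⟩
      · rintro ⟨σ, rfl⟩
        exact ⟨σ.trans τ, by simp [σC, ← AlgHom.comp_apply, ← Algebra.TensorProduct.map_comp]; rfl⟩
      · rintro ⟨σ, rfl⟩
        refine ⟨σ.trans τ.symm, ?_⟩
        show (σC τ).comp (σC (σ.trans τ.symm)) f = _
        rw [← Algebra.TensorProduct.map_comp]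
        congr 2
        exact AlgHom.ext fun x => τ.apply_symm_apply (σ x)
    have hinv : ∀ τ : L ≃ₐ[k] L, σC τ P = P := fun τ => by
      rw [map_prod]
      have hinj : Function.Injective (σC τ) := Function.LeftInverse.injective (g := σC τ.symm) fun x => by
        rw [← AlgHom.comp_apply, ← Algebra.TensorProduct.map_comp, show τ.symm.toAlgHom.comp τ.toAlgHom = AlgHom.id k L
          from AlgHom.ext τ.symm_apply_apply, AlgHom.id_comp, Algebra.TensorProduct.map_id, AlgHom.id_apply]
      conv_rhs => rw [show P = ∏ s ∈ S.image (σC τ), (1 - s) by rw [hS], Finset.prod_image hinj.injOn]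
      exact Finset.prod_congr rfl fun s _ => by rw [map_sub, map_one]
    obtain ⟨c, hc⟩ := exists_of_fixed hinv
    have hPi : IsIdempotentElem P := by
      show (∏ s ∈ S, (1 - s)) * _ = _
      rw [← Finset.prod_mul_distrib]
      refine Finset.prod_congr rfl fun s hs => ?_
      obtain ⟨σ, rfl⟩ := hfin.mem_toFinset.1 hs
      exact ((hf.map (σC σ)).one_sub).eq
    have hci : IsIdempotentElem c := Algebra.TensorProduct.includeRight_injective (algebraMap k L).injective (by
      show (1 : L) ⊗ₜ[k] (c * c) = (1 : L) ⊗ₜ[k] c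
      rw [← mul_one (1 : L), ← Algebra.TensorProduct.tmul_mul_tmul, mul_one, hc, hPi.eq])
    have hεσ : ∀ σ : L ≃ₐ[k] L, ∀ w, CoalgebraStruct.counit (R := L) (σC σ w) = σ (CoalgebraStruct.counit (R := L) w) := by
      intro σ w
      induction w using TensorProduct.induction_on with
      | zero => simp
      | add x y hx hy => simp only [map_add, hx, hy]
      | tmul x y => simp [σC, TensorProduct.counit_tmul]
    have hεP : CoalgebraStruct.counit (R := L) P = 1 := by
      show Bialgebra.counitAlgHom L (L ⊗[k] C) P = 1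
      rw [map_prod]
      refine Finset.prod_eq_one fun s hs => ?_
      obtain ⟨σ, rfl⟩ := hfin.mem_toFinset.1 hs
      rw [map_sub, map_one]
      show 1 - CoalgebraStruct.counit (R := L) (σC σ f) = 1
      rw [hεσ, hεf, map_zero, sub_zero]
    rcases hU c hci with rfl | rfl
    · rw [← hc, TensorProduct.tmul_zero, map_zero] at hεP
      exact absurd hεP zero_ne_one
    · have hfS : f ∈ S := hfin.mem_toFinset.2 ⟨AlgEquiv.refl, by
        show Algebra.TensorProduct.map (AlgHom.id k L) (AlgHom.id k C) f = f
        rw [Algebra.TensorProduct.map_id]; rfl⟩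
      have h1 : f * P = 0 := by
        show f * ∏ s ∈ S, (1 - s) = 0
        rw [← Finset.mul_prod_erase S _ hfS, ← mul_assoc, mul_sub, mul_one, hf.eq, sub_self, zero_mul]
      rw [← hc, ← Algebra.TensorProduct.one_def, mul_one] at h1
      exact h1
  have hK : ∀ c : L ⊗[k] C, ∃ s, c ∈ UnipHopf.K L (L ⊗[k] C) s :=
    UnipHopf.exhaustive_baseChange (UnipHopf.exhaustive_of_isUnipotent hC)
  obtain ⟨⟨rL, hrL⟩, hgen⟩ := (CExt.of_ker ψL hψL hconn qL hqL hker e).exists_retraction hK
  have hrL' : ∀ c, rL (ψL c) = c := fun c => DFunLike.congr_fun hrL c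
  have hrg : ∀ g, IsGroupLikeElem L g → rL g = 1 := fun g hg => eq_one_of_groupLike (hg.map rL) hK
  -- invariance
  have hinv : ∀ σ : L ≃ₐ[k] L, ∀ a, σC σ (rL a) = rL (σA σ a) := by
    intro σ a
    induction hgen a using Submodule.span_induction with
    | mem x hx =>
      obtain ⟨c, g, hg, rfl⟩ := hx
      have hσψ : σA σ (ψL c) = ψL (σC σ c) := by
        induction c using TensorProduct.induction_on with
        | zero => simp
        | add x y hx hy => simp only [map_add, hx, hy]
        | tmul x y => rfl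
      rw [map_mul rL, map_mul (σA σ), map_mul rL, hrL', hrg g hg, mul_one, hσψ, hrL',
        hrg _ (map_isGroupLike σ.toAlgHom hg), mul_one]
    | zero => simp
    | add x y _ _ hx hy => simp only [map_add, hx, hy]
    | smul t x _ hx =>
      have hs : ∀ (V : Type u) [CommRing V] [Algebra k V] (t : L) (x : L ⊗[k] V),
          Algebra.TensorProduct.map σ.toAlgHom (AlgHom.id k V) (t • x) =
            σ t • Algebra.TensorProduct.map σ.toAlgHom (AlgHom.id k V) x := fun V _ _ t x => by
        induction x using TensorProduct.induction_on with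
        | zero => simp
        | add p r hp hr => simp only [smul_add, map_add, hp, hr]
        | tmul p r => simp [TensorProduct.smul_tmul']
      rw [map_smul rL, show σC σ (t • rL x) = _ from hs C t (rL x), show σA σ (t • x) = _ from hs A t x, map_smul rL]
      exact congrArg (σ t • ·) hx
  have hfix : ∀ a : A, ∃ c : C, (1 : L) ⊗ₜ[k] c = rL ((1 : L) ⊗ₜ[k] a) := fun a => exists_of_fixed fun σ => by
    refine (hinv σ _).trans ?_
    simp [σA]
  choose r hr using hfix
  have hι : Function.Injective (Algebra.TensorProduct.includeRight : C →ₐ[k] L ⊗[k] C) :=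
    Algebra.TensorProduct.includeRight_injective (algebraMap k L).injective
  let iA : A →ₐ[k] L ⊗[k] A := Algebra.TensorProduct.includeRight
  let R₀ : A →ₐ[k] L ⊗[k] C := ((rL : L ⊗[k] A →ₐ[L] L ⊗[k] C).restrictScalars k).comp iA
  have hR₀ : ∀ a, (Algebra.TensorProduct.includeRight : C →ₐ[k] L ⊗[k] C) (r a) = R₀ a := hr
  let r' : A →ₐ[k] C := AlgHom.ofLinearMap
    { toFun := r
      map_add' := fun x y => hι (by rw [map_add, hR₀, hR₀, hR₀, map_add])
      map_smul' := fun t x => hι (by rw [RingHom.id_apply, map_smul, hR₀, hR₀, map_smul]) }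
    (hι (by show (Algebra.TensorProduct.includeRight : C →ₐ[k] L ⊗[k] C) (r 1) = _; rw [hR₀, map_one, map_one]))
    fun x y => hι (by
      show (Algebra.TensorProduct.includeRight : C →ₐ[k] L ⊗[k] C) (r (x * y)) = _
      rw [hR₀, map_mul, ← hR₀, ← hR₀, ← map_mul]
      rfl)
  let rb : A →ₐc[k] C := BialgHom.ofAlgHom r'
    (AlgHom.ext fun a => by
      show CoalgebraStruct.counit (R := k) (r a) = CoalgebraStruct.counit (R := k) a
      apply (algebraMap k L).injective
      have h1 : CoalgebraStruct.counit (R := L) ((1 : L) ⊗ₜ[k] r a) = CoalgebraStruct.counit (R := L) ((1 : L) ⊗ₜ[k] a) := by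
        rw [hr, CoalgHomClass.counit_comp_apply rL]
      rw [TensorProduct.counit_tmul, TensorProduct.counit_tmul] at h1
      simpa [Algebra.algebraMap_eq_smul_one] using h1)
    (AlgHom.ext fun a => by
      show Algebra.TensorProduct.map r' r' (CoalgebraStruct.comul (R := k) a) = CoalgebraStruct.comul (R := k) (r a)
      apply incSq_injective (k := k) (L := L)
      rw [← UnipHopf.comul_one_tmul, hr, ← CoalgHomClass.map_comp_comul_apply rL, UnipHopf.comul_one_tmul]
      generalize CoalgebraStruct.comul (R := k) a = z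
      induction z using TensorProduct.induction_on with
      | zero => simp
      | add x y hx hy => simp only [map_add, hx, hy]
      | tmul x y =>
        rw [Algebra.TensorProduct.map_tmul, UnipHopf.incSq_tmul, UnipHopf.incSq_tmul, TensorProduct.map_tmul]
        exact congrArg₂ (· ⊗ₜ[L] ·) (hr x) (hr y))
  refine ⟨rb, BialgHom.ext fun c => hι ?_, fun s hs => BialgHom.ext fun a => hι ?_⟩
  · show (1 : L) ⊗ₜ[k] r (ψ c) = (1 : L) ⊗ₜ[k] c
    rw [hr]
    exact hrL' ((1 : L) ⊗ₜ[k] c)
  · show (1 : L) ⊗ₜ[k] s a = (1 : L) ⊗ₜ[k] r a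
    rw [hr]
    let sL : L ⊗[k] A →ₐc[L] L ⊗[k] C := Bialgebra.TensorProduct.map (BialgHom.id L L) s
    have hsL : ∀ c, sL (ψL c) = c := fun c => by
      induction c using TensorProduct.induction_on with
      | zero => simp
      | add x y hx hy => simp only [map_add, hx, hy]
      | tmul x y => exact congrArg (x ⊗ₜ[k] ·) (DFunLike.congr_fun hs y)
    suffices h1 : ∀ w, sL w = rL w by exact h1 ((1 : L) ⊗ₜ[k] a)
    intro w
    induction hgen w using Submodule.span_induction with
    | mem x hx =>
      obtain ⟨c, g, hg, rfl⟩ := hx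
      rw [map_mul, map_mul, hsL, hrL', hrg g hg, eq_one_of_groupLike (hg.map sL) hK]
    | zero => simp
    | add x y _ _ hx hy => simp only [map_add, hx, hy]
    | smul t x _ hx => simp only [map_smul, hx]

end Groth.Agent.MultUnip
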