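import Groth.Agent.MultUnipLib.Act
import Groth.Agent.ComodLib.HomComod
import Groth.Agent.HopfFFLib.Consequences
import Groth.Agent.UnipSplitLib.Translate

/-!
The two weight gradings of a group with a diagonalisable subgroup.
-/

set_option autoImplicit false

noncomputable section

universe u

open TensorProduct ComodLib

namespace Groth.Agent.MultUnip

variable {k : Type u} [Field k] {A : Type u} [CommRing A] [HopfAlgebra k A]
  {H : Type u} [CommRing H] [HopfAlgebra k H] {M : Type u} [CommGroup M]

/-- A quotient map to a diagonalisable group, with the basis of characters. -/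
structure Diag (q : A →ₐc[k] H) (β : Module.Basis M k H) : Prop where
  one : β 1 = 1
  mul : ∀ m n, β (m * n) = β m * β n
  gl : ∀ m, CoalgebraStruct.comul (R := k) (β m) = β m ⊗ₜ[k] β m
  surj : Function.Surjective q

variable (q : A →ₐc[k] H)

/-- The right coaction of the subgroup. -/
def lamR : A →ₐ[k] A ⊗[k] H :=
  (Algebra.TensorProduct.map (AlgHom.id k A) (q : A →ₐ[k] H)).comp (Bialgebra.comulAlgHom k A)

/-- The left coaction of the subgroup. -/
def lamL : A →ₐ[k] H ⊗[k] A :=
  (Algebra.TensorProduct.map (q : A →ₐ[k] H) (AlgHom.id k A)).comp (Bialgebra.comulAlgHom k A)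

theorem lamR_apply (a : A) :
    lamR q a = LinearMap.lTensor A (q : A →ₐ[k] H).toLinearMap (CoalgebraStruct.comul (R := k) a) := by
  show Algebra.TensorProduct.map (AlgHom.id k A) (q : A →ₐ[k] H) (CoalgebraStruct.comul (R := k) a) = _
  generalize CoalgebraStruct.comul (R := k) a = z
  induction z using TensorProduct.induction_on with
  | zero => simp
  | add x y hx hy => simp only [map_add, hx, hy]
  | tmul x y => rfl

theorem lamL_apply (a : A) :
    lamL q a = LinearMap.rTensor A (q : A →ₐ[k] H).toLinearMap (CoalgebraStruct.comul (R := k) a) := by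
  show Algebra.TensorProduct.map (q : A →ₐ[k] H) (AlgHom.id k A) (CoalgebraStruct.comul (R := k) a) = _
  generalize CoalgebraStruct.comul (R := k) a = z
  induction z using TensorProduct.induction_on with
  | zero => simp
  | add x y hx hy => simp only [map_add, hx, hy]
  | tmul x y => rfl

variable (β : Module.Basis M k H)

/-- Elements of right weight `m`. -/
def WR (m : M) : Submodule k A :=
  LinearMap.eqLocus (lamR q).toLinearMap ((TensorProduct.mk k A H).flip (β m))

/-- Elements of left weight `m`. -/
def WL (m : M) : Submodule k A :=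
  LinearMap.eqLocus (lamL q).toLinearMap (TensorProduct.mk k H A (β m))

theorem mem_WR {m : M} {a : A} : a ∈ WR q β m ↔ lamR q a = a ⊗ₜ[k] β m := Iff.rfl

theorem mem_WL {m : M} {a : A} : a ∈ WL q β m ↔ lamL q a = β m ⊗ₜ[k] a := Iff.rfl

/-- The functional picking a weight. -/
def fn (j : M) : A →ₗ[k] k := β.coord j ∘ₗ (q : A →ₐ[k] H).toLinearMap

/-- Projection to a right weight. -/
def prR (j : M) : A →ₗ[k] A := actR (fn q β j)

/-- Projection to a left weight. -/
def prL (j : M) : A →ₗ[k] A := actL (fn q β j)

theorem prR_eq (j : M) (a : A) : prR q β j a = slice (β.coord j) (lamR q a) := by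
  rw [lamR_apply, slice_lTensor]
  rfl

theorem prL_eq (j : M) (a : A) : prL q β j a = sliceL (β.coord j) (lamL q a) := by
  rw [lamL_apply, sliceL_rTensor]
  rfl

variable {q β}

theorem Diag.counit_eq (h : Diag q β) (m : M) : CoalgebraStruct.counit (R := k) (β m) = 1 := by
  have h1 := congrArg (TensorProduct.lid k H) (Coalgebra.rTensor_counit_comul (R := k) (β m))
  rw [h.gl, LinearMap.rTensor_tmul, TensorProduct.lid_tmul, TensorProduct.lid_tmul, one_smul] at h1
  have h2 := congrArg (β.coord m) h1
  simpa using h2

theorem Diag.antipode_eq (h : Diag q β) (m : M) : HopfAlgebraStruct.antipode (R := k) (β m) = β m⁻¹ := by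
  have h1 := HopfAlgebra.mul_antipode_rTensor_comul_apply (R := k) (β m)
  rw [h.gl, h.counit_eq, map_one, LinearMap.rTensor_tmul, LinearMap.mul'_apply] at h1
  have h2 : β m * β m⁻¹ = 1 := by rw [← h.mul, mul_inv_cancel, h.one]
  exact left_inv_eq_right_inv h1 h2

theorem prR_of_mem {m j : M} [DecidableEq M] {a : A} (ha : a ∈ WR q β m) :
    prR q β j a = if m = j then a else 0 := by
  rw [prR_eq, (mem_WR q β).1 ha, slice_tmul]
  split_ifs with e
  · subst e; simp
  · simp [e]

theorem prL_of_mem {m j : M} [DecidableEq M] {a : A} (ha : a ∈ WL q β m) :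
    prL q β j a = if m = j then a else 0 := by
  rw [prL_eq, (mem_WL q β).1 ha, sliceL_tmul]
  split_ifs with e
  · subst e; simp
  · simp [e]

theorem prR_self {m : M} {a : A} (ha : a ∈ WR q β m) : prR q β m a = a := by
  classical
  rw [prR_of_mem ha, if_pos rfl]

theorem prL_self {m : M} {a : A} (ha : a ∈ WL q β m) : prL q β m a = a := by
  classical
  rw [prL_of_mem ha, if_pos rfl]

theorem Diag.slice_coord_comul (h : Diag q β) (j : M) (x : H) :
    slice (β.coord j) (CoalgebraStruct.comul (R := k) x) = β.coord j x • β j := by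
  classical
  have : slice (β.coord j) ∘ₗ CoalgebraStruct.comul = (β.coord j).smulRight (β j) := β.ext fun m => by
    rw [LinearMap.comp_apply, h.gl, slice_tmul, LinearMap.smulRight_apply]
    rcases eq_or_ne m j with rfl | hne
    · rfl
    · simp [hne]
  exact LinearMap.congr_fun this x

theorem Diag.sliceL_coord_comul (h : Diag q β) (j : M) (x : H) :
    sliceL (β.coord j) (CoalgebraStruct.comul (R := k) x) = β.coord j x • β j := by
  classical
  have : sliceL (β.coord j) ∘ₗ CoalgebraStruct.comul = (β.coord j).smulRight (β j) := β.ext fun m => by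
    rw [LinearMap.comp_apply, h.gl, sliceL_tmul, LinearMap.smulRight_apply]
    rcases eq_or_ne m j with rfl | hne
    · rfl
    · simp [hne]
  exact LinearMap.congr_fun this x

theorem Diag.map_prR (h : Diag q β) (j : M) (a : A) : q (prR q β j a) = fn q β j a • β j := by
  have h1 : ∀ z : A ⊗[k] A, q (slice (fn q β j) z) =
      slice (β.coord j) (TensorProduct.map (q : A →ₗ[k] H) (q : A →ₗ[k] H) z) := fun z => by
    induction z using TensorProduct.induction_on with
    | zero => simp
    | add x y hx hy => simp only [map_add, hx, hy]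
    | tmul x y => simp [fn]
  show q (slice (fn q β j) (CoalgebraStruct.comul (R := k) a)) = _
  rw [h1, CoalgHomClass.map_comp_comul_apply q, h.slice_coord_comul]
  rfl

theorem Diag.map_prL (h : Diag q β) (j : M) (a : A) : q (prL q β j a) = fn q β j a • β j := by
  have h1 : ∀ z : A ⊗[k] A, q (sliceL (fn q β j) z) =
      sliceL (β.coord j) (TensorProduct.map (q : A →ₗ[k] H) (q : A →ₗ[k] H) z) := fun z => by
    induction z using TensorProduct.induction_on with
    | zero => simp
    | add x y hx hy => simp only [map_add, hx, hy]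
    | tmul x y => simp [fn]
  show q (sliceL (fn q β j) (CoalgebraStruct.comul (R := k) a)) = _
  rw [h1, CoalgHomClass.map_comp_comul_apply q, h.sliceL_coord_comul]
  rfl

theorem Diag.prR_mem (h : Diag q β) (j : M) (a : A) : prR q β j a ∈ WR q β j := by
  rw [mem_WR, lamR_apply, prR, comul_actR]
  show _ = slice (fn q β j) (CoalgebraStruct.comul (R := k) a) ⊗ₜ[k] β j
  rw [← LinearMap.lTensor_comp_apply]
  generalize CoalgebraStruct.comul (R := k) a = z
  induction z using TensorProduct.induction_on with
  | zero => simp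
  | add x y hx hy => simp only [map_add, TensorProduct.add_tmul, hx, hy]
  | tmul x y =>
    rw [LinearMap.lTensor_tmul, slice_tmul, TensorProduct.smul_tmul]
    exact congrArg (x ⊗ₜ[k] ·) (h.map_prR j y)

theorem Diag.prL_mem (h : Diag q β) (j : M) (a : A) : prL q β j a ∈ WL q β j := by
  rw [mem_WL, lamL_apply, prL, comul_actL]
  show _ = β j ⊗ₜ[k] sliceL (fn q β j) (CoalgebraStruct.comul (R := k) a)
  rw [← LinearMap.rTensor_comp_apply]
  generalize CoalgebraStruct.comul (R := k) a = z
  induction z using TensorProduct.induction_on with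
  | zero => simp
  | add x y hx hy => simp only [map_add, TensorProduct.tmul_add, hx, hy]
  | tmul x y =>
    rw [LinearMap.rTensor_tmul, sliceL_tmul, ← TensorProduct.smul_tmul]
    exact congrArg (· ⊗ₜ[k] y) (h.map_prL j x)

theorem Diag.exists_sum_prR (h : Diag q β) (a : A) :
    ∃ F : Finset M, ∀ G : Finset M, F ⊆ G → ∑ j ∈ G, prR q β j a = a := by
  classical
  obtain ⟨c, hc⟩ := TensorProduct.eq_repr_basis_right β (lamR q a)
  have hj : ∀ j, prR q β j a = c j := fun j => by
    rw [prR_eq, ← hc, map_finsuppSum]
    simp +contextual [Finsupp.sum, Finsupp.single_apply, eq_comm]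
  refine ⟨c.support, fun G hG => ?_⟩
  have h1 : slice (CoalgebraStruct.counit (R := k)) (lamR q a) = a := by
    rw [lamR_apply, slice_lTensor,
      show (CoalgebraStruct.counit (R := k)) ∘ₗ (q : A →ₐ[k] H).toLinearMap = CoalgebraStruct.counit from
        LinearMap.ext fun x => CoalgHomClass.counit_comp_apply q x]
    exact slice_counit (V := A) a
  conv_rhs => rw [← h1, ← hc, map_finsuppSum, Finsupp.sum]
  rw [Finset.sum_congr rfl (fun j _ => hj j), ← Finset.sum_subset hG fun j _ hj => Finsupp.notMem_support_iff.1 hj]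
  exact Finset.sum_congr rfl fun j _ => by rw [slice_tmul, h.counit_eq, one_smul]

theorem Diag.exists_sum_rTensor (h : Diag q β) (z : A ⊗[k] A) :
    ∃ F : Finset M, ∀ G : Finset M, F ⊆ G → ∑ j ∈ G, LinearMap.rTensor A (prR q β j) z = z := by
  classical
  induction z using TensorProduct.induction_on with
  | zero => exact ⟨∅, fun G _ => by simp⟩
  | add x y hx hy =>
    obtain ⟨F, hF⟩ := hx
    obtain ⟨F', hF'⟩ := hy
    refine ⟨F ∪ F', fun G hG => ?_⟩
    simp only [map_add, Finset.sum_add_distrib]
    rw [hF G (Finset.union_subset_left hG), hF' G (Finset.union_subset_right hG)]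
  | tmul x y =>
    obtain ⟨F, hF⟩ := h.exists_sum_prR x
    exact ⟨F, fun G hG => by simp [← TensorProduct.sum_tmul, hF G hG]⟩

theorem Diag.mul_mem_WR (h : Diag q β) {m n : M} {a b : A} (ha : a ∈ WR q β m) (hb : b ∈ WR q β n) :
    a * b ∈ WR q β (m * n) := by
  rw [mem_WR] at ha hb ⊢
  rw [map_mul, ha, hb, Algebra.TensorProduct.tmul_mul_tmul, h.mul]

theorem Diag.mul_mem_WL (h : Diag q β) {m n : M} {a b : A} (ha : a ∈ WL q β m) (hb : b ∈ WL q β n) :
    a * b ∈ WL q β (m * n) := by
  rw [mem_WL] at ha hb ⊢
  rw [map_mul, ha, hb, Algebra.TensorProduct.tmul_mul_tmul, h.mul]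

theorem map_of_mem_WR {m : M} {a : A} (ha : a ∈ WR q β m) :
    q a = CoalgebraStruct.counit (R := k) a • β m := by
  have h1 := congrArg (sliceL (CoalgebraStruct.counit (R := k) (A := A))) ((mem_WR q β).1 ha)
  rw [lamR_apply, sliceL_lTensor, sliceL_tmul] at h1
  rw [← h1, sliceL, LinearMap.comp_apply, Coalgebra.rTensor_counit_comul]
  simp

theorem map_of_mem_WL (h : Diag q β) {m : M} {a : A} (ha : a ∈ WL q β m) :
    q a = CoalgebraStruct.counit (R := k) a • β m := by
  have h1 := congrArg (slice (CoalgebraStruct.counit (R := k) (A := A))) ((mem_WL q β).1 ha)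
  rw [lamL_apply, slice_rTensor, slice_tmul] at h1
  rw [← h1]
  exact congrArg _ (slice_counit (V := A) a).symm

theorem Diag.antipode_mem_WR (h : Diag q β) {m : M} {a : A} (ha : a ∈ WL q β m) :
    HopfAlgebraStruct.antipode (R := k) a ∈ WR q β m⁻¹ := by
  rw [mem_WR, lamR_apply, comul_antipode']
  have key : ∀ z : A ⊗[k] A,
      LinearMap.lTensor A (q : A →ₐ[k] H).toLinearMap
        (TensorProduct.map (HopfAlgebraStruct.antipode (R := k)) (HopfAlgebraStruct.antipode (R := k))
          (TensorProduct.comm k A A z)) =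
      TensorProduct.map (HopfAlgebraStruct.antipode (R := k)) (HopfAlgebraStruct.antipode (R := k))
        (TensorProduct.comm k H A (LinearMap.rTensor A (q : A →ₐ[k] H).toLinearMap z)) := fun z => by
    induction z using TensorProduct.induction_on with
    | zero => simp
    | add x y hx hy => simp only [map_add, hx, hy]
    | tmul x y =>
      simp only [TensorProduct.comm_tmul, TensorProduct.map_tmul, LinearMap.lTensor_tmul, LinearMap.rTensor_tmul]
      exact congrArg _ (HopfFF.map_antipode q x)
  refine (key _).trans ?_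
  rw [← lamL_apply, (mem_WL q β).1 ha, TensorProduct.comm_tmul, TensorProduct.map_tmul, h.antipode_eq]

theorem Diag.antipode_mem_WL (h : Diag q β) {m : M} {a : A} (ha : a ∈ WR q β m) :
    HopfAlgebraStruct.antipode (R := k) a ∈ WL q β m⁻¹ := by
  rw [mem_WL, lamL_apply, comul_antipode']
  have key : ∀ z : A ⊗[k] A,
      LinearMap.rTensor A (q : A →ₐ[k] H).toLinearMap
        (TensorProduct.map (HopfAlgebraStruct.antipode (R := k)) (HopfAlgebraStruct.antipode (R := k))
          (TensorProduct.comm k A A z)) =
      TensorProduct.map (HopfAlgebraStruct.antipode (R := k)) (HopfAlgebraStruct.antipode (R := k))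
        (TensorProduct.comm k A H (LinearMap.lTensor A (q : A →ₐ[k] H).toLinearMap z)) := fun z => by
    induction z using TensorProduct.induction_on with
    | zero => simp
    | add x y hx hy => simp only [map_add, hx, hy]
    | tmul x y =>
      simp only [TensorProduct.comm_tmul, TensorProduct.map_tmul, LinearMap.lTensor_tmul, LinearMap.rTensor_tmul]
      exact congrArg (· ⊗ₜ[k] _) (HopfFF.map_antipode q y)
  refine (key _).trans ?_
  rw [← lamR_apply, (mem_WR q β).1 ha, TensorProduct.comm_tmul, TensorProduct.map_tmul, h.antipode_eq]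

theorem actL_mem_WR {m : M} {a : A} (g : A →ₗ[k] k) (h : Diag q β) (ha : a ∈ WR q β m) :
    actL g a ∈ WR q β m := by
  have h1 : prR q β m (actL g a) = actL g a := by
    rw [prR, actR_actL]
    exact congrArg _ (prR_self ha)
  rw [← h1]
  exact h.prR_mem m _

theorem actR_mem_WL {m : M} {a : A} (g : A →ₗ[k] k) (h : Diag q β) (ha : a ∈ WL q β m) :
    actR g a ∈ WL q β m := by
  have h1 : prL q β m (actR g a) = actR g a := by
    rw [prL, ← actR_actL]
    exact congrArg _ (prL_self ha)
  rw [← h1]
  exact h.prL_mem m _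

theorem Diag.coord_mul (h : Diag q β) (j n : M) (x : H) :
    β.coord j (x * β n) = β.coord (j * n⁻¹) x := by
  classical
  have : β.coord j ∘ₗ LinearMap.mulRight k (β n) = β.coord (j * n⁻¹) := β.ext fun i => by
    simp only [LinearMap.comp_apply, LinearMap.mulRight_apply, ← h.mul]
    by_cases e : i = j * n⁻¹
    · subst e; simp
    · have e' : i * n ≠ j := fun e'' => e (by rw [← e'', mul_inv_cancel_right])
      simp [e, e']
  exact LinearMap.congr_fun this x

theorem Diag.prL_mul (h : Diag q β) {n : M} (j : M) (x : A) {y : A} (hy : y ∈ WL q β n) :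
    prL q β j (x * y) = prL q β (j * n⁻¹) x * y := by
  rw [prL_eq, prL_eq, map_mul, (mem_WL q β).1 hy]
  generalize lamL q x = w
  induction w using TensorProduct.induction_on with
  | zero => simp
  | add p r hp hr => simp only [map_add, add_mul, hp, hr]
  | tmul p r => simp only [Algebra.TensorProduct.tmul_mul_tmul, sliceL_tmul, h.coord_mul, smul_mul_assoc]

end Groth.Agent.MultUnip
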