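import Groth.Agent.ComodLib.Slices
import Groth.Agent.ComodLib.Dual
import Groth.Agent.ComodLib.Coeff
import Mathlib.LinearAlgebra.TensorProduct.Basis

/-!
The two actions of functionals on a coalgebra.
-/

set_option autoImplicit false

noncomputable section

universe u v

open TensorProduct ComodLib

namespace Groth.Agent.MultUnip

variable {k : Type u} [Field k] {A : Type v} [AddCommGroup A] [Module k A] [Coalgebra k A]

/-- The right action `a ↦ a₁ f(a₂)`. -/
def actR (f : A →ₗ[k] k) : A →ₗ[k] A := slice f ∘ₗ CoalgebraStruct.comul

/-- The left action `a ↦ f(a₁) a₂`. -/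
def actL (f : A →ₗ[k] k) : A →ₗ[k] A := sliceL f ∘ₗ CoalgebraStruct.comul

theorem comul_actR (f : A →ₗ[k] k) (a : A) :
    CoalgebraStruct.comul (R := k) (actR f a) =
      LinearMap.lTensor A (actR f) (CoalgebraStruct.comul (R := k) a) := by
  have key : ∀ w : A ⊗[k] (A ⊗[k] A),
      slice f ((TensorProduct.assoc k A A A).symm w) = LinearMap.lTensor A (slice f) w := fun w => by
    induction w using TensorProduct.induction_on with
    | zero => simp
    | add x y hx hy => simp only [map_add, hx, hy]
    | tmul x v =>
      induction v using TensorProduct.induction_on with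
      | zero => simp
      | add p r hp hr => simp only [TensorProduct.tmul_add, map_add, hp, hr]
      | tmul p r => simp [TensorProduct.tmul_smul]
  show CoalgebraStruct.comul (R := k) (slice f (CoalgebraStruct.comul (R := k) a)) = _
  rw [← slice_rTensor, ← Coalgebra.coassoc_symm_apply, key, ← LinearMap.lTensor_comp_apply]
  rfl

theorem comul_actL (f : A →ₗ[k] k) (a : A) :
    CoalgebraStruct.comul (R := k) (actL f a) =
      LinearMap.rTensor A (actL f) (CoalgebraStruct.comul (R := k) a) := by
  have key : ∀ w : (A ⊗[k] A) ⊗[k] A,
      sliceL f ((TensorProduct.assoc k A A A) w) = LinearMap.rTensor A (sliceL f) w := fun w => by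
    induction w using TensorProduct.induction_on with
    | zero => simp
    | add x y hx hy => simp only [map_add, hx, hy]
    | tmul v r =>
      induction v using TensorProduct.induction_on with
      | zero => simp
      | add p x hp hx => simp only [TensorProduct.add_tmul, map_add, hp, hx]
      | tmul x p => simp [TensorProduct.smul_tmul']
  show CoalgebraStruct.comul (R := k) (sliceL f (CoalgebraStruct.comul (R := k) a)) = _
  rw [← sliceL_lTensor, ← Coalgebra.coassoc_apply, key, ← LinearMap.rTensor_comp_apply]
  rfl

theorem actR_actL (f g : A →ₗ[k] k) (a : A) : actR f (actL g a) = actL g (actR f a) := by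
  show _ = sliceL g (CoalgebraStruct.comul (R := k) (actR f a))
  rw [comul_actR, sliceL_lTensor]
  rfl

theorem rTensor_actR_comul (f : A →ₗ[k] k) (a : A) :
    LinearMap.rTensor A (actR f) (CoalgebraStruct.comul (R := k) a) =
      LinearMap.lTensor A (actL f) (CoalgebraStruct.comul (R := k) a) := by
  have key : ∀ w : A ⊗[k] (A ⊗[k] A),
      LinearMap.rTensor A (slice f) ((TensorProduct.assoc k A A A).symm w) =
        LinearMap.lTensor A (sliceL f) w := fun w => by
    induction w using TensorProduct.induction_on with
    | zero => simp
    | add x y hx hy => simp only [map_add, hx, hy]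
    | tmul x v =>
      induction v using TensorProduct.induction_on with
      | zero => simp
      | add p r hp hr => simp only [TensorProduct.tmul_add, map_add, hp, hr]
      | tmul p r => simp [TensorProduct.smul_tmul', TensorProduct.tmul_smul]
  rw [actR, actL, LinearMap.rTensor_comp_apply, ← Coalgebra.coassoc_symm_apply, key,
    ← LinearMap.lTensor_comp_apply]

theorem counit_actR (f : A →ₗ[k] k) (a : A) : CoalgebraStruct.counit (R := k) (actR f a) = f a :=
  counit_smul (WithConv.toConv f) a

theorem ext_slice {V : Type*} [AddCommGroup V] [Module k V] {x y : V ⊗[k] A}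
    (h : ∀ f : A →ₗ[k] k, slice f x = slice f y) : x = y := by
  let b := Module.Basis.ofVectorSpace k A
  obtain ⟨c, hc⟩ := TensorProduct.eq_repr_basis_right b (x - y)
  have h0 : ∀ i, c i = 0 := fun i => by
    classical
    have h1 := sub_eq_zero.2 (h (b.coord i))
    rw [← map_sub, ← hc, map_finsuppSum] at h1
    simpa [Finsupp.sum, Finsupp.single_apply] using h1
  have : c = 0 := Finsupp.ext h0
  rw [this, Finsupp.sum_zero_index] at hc
  exact sub_eq_zero.1 hc.symm

end Groth.Agent.MultUnip
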