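import Groth.Agent.MultUnipLib.Weights
import Mathlib.Algebra.Algebra.Operations
import Mathlib.Algebra.Group.Idempotent

/-!
A diagonalisable normal subgroup with connected quotient is central.
-/

set_option autoImplicit false

noncomputable section

universe u

open TensorProduct ComodLib

namespace Groth.Agent.MultUnip

variable {k : Type u} [Field k] {A : Type u} [CommRing A] [HopfAlgebra k A]
  {C : Type u} [CommRing C] [HopfAlgebra k C]
  {H : Type u} [CommRing H] [HopfAlgebra k H] {M : Type u} [CommGroup M]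

/-- An extension of a connected group by a diagonalisable one. -/
structure CExt (q : A →ₐc[k] H) (β : Module.Basis M k H) (ψ : C →ₐc[k] A) : Prop extends Diag q β where
  inj : Function.Injective ψ
  conn : ∀ e : C, IsIdempotentElem e → e = 0 ∨ e = 1
  comp : ∀ c, ψ c ∈ WR q β 1 ⊓ WL q β 1
  coinv : ∀ a ∈ WR q β 1, ∃ c, ψ c = a

variable {q : A →ₐc[k] H} {β : Module.Basis M k H} {ψ : C →ₐc[k] A}

theorem CExt.coinvL (h : CExt q β ψ) {a : A} (ha : a ∈ WL q β 1) : ∃ c, ψ c = a := by
  have h1 := h.toDiag.antipode_mem_WR ha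
  rw [inv_one] at h1
  obtain ⟨c, hc⟩ := h.coinv _ h1
  refine ⟨HopfAlgebraStruct.antipode (R := k) c, ?_⟩
  rw [show ψ (HopfAlgebraStruct.antipode (R := k) c) = HopfAlgebraStruct.antipode (R := k) (ψ c) from HopfFF.map_antipode ψ c, hc, HopfFF.antipode_antipode]

theorem CExt.WL_of_WR (h : CExt q β ψ) {a : A} (ha : a ∈ WR q β 1) : a ∈ WL q β 1 := by
  obtain ⟨c, rfl⟩ := h.coinv a ha
  exact (h.comp c).2

theorem CExt.WR_of_WL (h : CExt q β ψ) {a : A} (ha : a ∈ WL q β 1) : a ∈ WR q β 1 := by
  obtain ⟨c, rfl⟩ := h.coinvL ha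
  exact (h.comp c).1

variable (q β) in
/-- Elements of given left and right weights. -/
def W (l r : M) : Submodule k A := WL q β l ⊓ WR q β r

theorem CExt.W_mul_le (h : CExt q β ψ) (l r l' r' : M) : W q β l r * W q β l' r' ≤ W q β (l * l') (r * r') :=
  Submodule.mul_le.2 fun _ ha _ hb => ⟨h.mul_mem_WL ha.1 hb.1, h.mul_mem_WR ha.2 hb.2⟩

theorem CExt.W_one_eq_bot (h : CExt q β ψ) {r : M} (hr : r ≠ 1) : W q β 1 r = ⊥ := by
  classical
  refine eq_bot_iff.2 fun a ha => ?_
  have h1 := prR_of_mem (j := r) (h.WR_of_WL ha.1)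
  rw [prR_self ha.2, if_neg (Ne.symm hr)] at h1
  exact h1

/-- Elements of weights `(m, n)` times elements of opposite weights. -/
abbrev P (q : A →ₐc[k] H) (β : Module.Basis M k H) (m n : M) : Submodule k A := W q β m n * W q β m⁻¹ n⁻¹

theorem CExt.P_mul_eq_bot (h : CExt q β ψ) {m n n' : M} (hn : n ≠ n') {a b : A} (ha : a ∈ P q β m n)
    (hb : b ∈ P q β m n') : a * b = 0 := by
  have h1 : a * b ∈ P q β m n * P q β m n' := Submodule.mul_mem_mul ha hb
  have h2 : P q β m n * P q β m n' =
      (W q β m n * W q β m⁻¹ n'⁻¹) * (W q β m⁻¹ n⁻¹ * W q β m n') := by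
    simp only [mul_comm, mul_left_comm, mul_assoc]
  have h3 : W q β m n * W q β m⁻¹ n'⁻¹ = ⊥ := eq_bot_iff.2 <| by
    refine (h.W_mul_le _ _ _ _).trans ?_
    rw [mul_inv_cancel, h.W_one_eq_bot fun e => hn (mul_inv_eq_one.1 e)]
  rw [h2, h3, Submodule.bot_mul] at h1
  exact h1

theorem CExt.counit_P (h : CExt q β ψ) {m n : M} (hn : n ≠ m) {a : A} (ha : a ∈ P q β m n) :
    CoalgebraStruct.counit (R := k) a = 0 := by
  refine Submodule.mul_induction_on ha (fun x hx y _ => ?_) fun x y hx hy => by rw [map_add, hx, hy, add_zero]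
  have h1 := congrArg (β.coord m) ((map_of_mem_WL h.toDiag hx.1).symm.trans (map_of_mem_WR hx.2))
  simp [hn] at h1
  rw [Bialgebra.counit_mul, h1, zero_mul]

theorem CExt.exists_counit_one (h : CExt q β ψ) (m : M) :
    ∃ a ∈ WR q β m, CoalgebraStruct.counit (R := k) a = 1 := by
  obtain ⟨a₀, ha₀⟩ := h.surj (β m)
  refine ⟨prR q β m a₀, h.prR_mem m a₀, ?_⟩
  rw [prR, counit_actR]
  show β.coord m (q a₀) = 1
  simp [ha₀]

theorem CExt.one_mem_P (h : CExt q β ψ) (m : M) : (1 : A) ∈ P q β m m := by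
  classical
  obtain ⟨a, ha, hεa⟩ := h.exists_counit_one m
  obtain ⟨F, hF⟩ := h.exists_sum_rTensor (CoalgebraStruct.comul (R := k) a)
  let G := insert m F
  let Sₐ : A →ₗ[k] A := HopfAlgebraStruct.antipode (R := k)
  let e : M → A := fun n => LinearMap.mul' k A
    (LinearMap.lTensor A Sₐ (LinearMap.rTensor A (prR q β n) (CoalgebraStruct.comul (R := k) a)))
  have hsum : ∑ n ∈ G, e n = 1 := by
    show ∑ n ∈ G, LinearMap.mul' k A (LinearMap.lTensor A Sₐ _) = 1
    rw [← map_sum, ← map_sum, hF G (Finset.subset_insert _ _), HopfAlgebra.mul_antipode_lTensor_comul_apply,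
      hεa, map_one]
  have heP : ∀ n, e n ∈ P q β m n := by
    intro n
    have h1 : LinearMap.rTensor A (prR q β n) (CoalgebraStruct.comul (R := k) a) =
        TensorProduct.map (prR q β n) (prL q β n ∘ₗ prR q β m) (CoalgebraStruct.comul (R := k) a) := by
      have hi : prR q β n ∘ₗ prR q β n = prR q β n := LinearMap.ext fun x => prR_self (h.prR_mem n x)
      conv_lhs => rw [← hi, LinearMap.rTensor_comp_apply, prR, rTensor_actR_comul,
        show CoalgebraStruct.comul (R := k) a = LinearMap.lTensor A (actR (fn q β m))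
          (CoalgebraStruct.comul (R := k) a) by rw [← comul_actR]; exact congrArg _ (prR_self ha).symm,
        ← LinearMap.lTensor_comp_apply, ← LinearMap.comp_apply, LinearMap.rTensor_comp_lTensor]
      rfl
    have h2 : ∀ z : A ⊗[k] A, LinearMap.mul' k A (LinearMap.lTensor A Sₐ
        (TensorProduct.map (prR q β n) (prL q β n ∘ₗ prR q β m) z)) ∈ WR q β n * W q β m⁻¹ n⁻¹ := by
      intro z
      induction z using TensorProduct.induction_on with
      | zero => simp
      | add x y hx hy => simp only [map_add]; exact add_mem hx hy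
      | tmul x y =>
        simp only [TensorProduct.map_tmul, LinearMap.lTensor_tmul, LinearMap.mul'_apply, LinearMap.comp_apply]
        refine Submodule.mul_mem_mul (h.prR_mem n x) ⟨?_, ?_⟩
        · refine h.antipode_mem_WL ?_
          exact actL_mem_WR _ h.toDiag (h.prR_mem m y)
        · exact h.antipode_mem_WR (h.prL_mem n _)
    have h3 : e n ∈ WR q β n * W q β m⁻¹ n⁻¹ := by
      show LinearMap.mul' k A (LinearMap.lTensor A Sₐ _) ∈ _
      rw [h1]
      exact h2 _
    have h4 : e n ∈ WR q β 1 := by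
      refine Submodule.mul_induction_on h3 (fun x hx y hy => ?_) fun x y hx hy => add_mem hx hy
      rw [← mul_inv_cancel n]
      exact h.mul_mem_WR hx hy.2
    rw [← prL_self (h.WL_of_WR h4)]
    refine Submodule.mul_induction_on h3 (fun x hx y hy => ?_) fun x y hx hy => by rw [map_add]; exact add_mem hx hy
    rw [h.prL_mul 1 x hy.1, one_mul, inv_inv]
    refine Submodule.mul_mem_mul ⟨h.prL_mem m x, ?_⟩ hy
    exact actL_mem_WR _ h.toDiag hx
  have horth : ∀ n n', n ≠ n' → e n * e n' = 0 := fun n n' hne => h.P_mul_eq_bot hne (heP n) (heP n')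
  have hidem : ∀ n ∈ G, e n * e n = e n := fun n hn => by
    conv_rhs => rw [← mul_one (e n), ← hsum, Finset.mul_sum, Finset.sum_eq_single_of_mem n hn fun j _ hj => horth n j hj.symm]
  have hzero : ∀ n ∈ G, n ≠ m → e n = 0 := by
    intro n hn hne
    have h1 : e n ∈ WR q β 1 := by
      have := h.W_mul_le _ _ _ _ (heP n)
      rw [mul_inv_cancel, mul_inv_cancel] at this
      exact this.2
    obtain ⟨c, hc⟩ := h.coinv _ h1
    have hc' : IsIdempotentElem c := h.inj (by rw [map_mul, hc, hidem n hn])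
    have hε := h.counit_P hne (heP n)
    rw [← hc, CoalgHomClass.counit_comp_apply] at hε
    rcases h.conn c hc' with rfl | rfl
    · rw [← hc, map_zero]
    · simp at hε
  rw [Finset.sum_eq_single_of_mem m (Finset.mem_insert_self _ _) hzero] at hsum
  exact hsum ▸ heP m

theorem CExt.WR_of_WL' (h : CExt q β ψ) {m : M} {a : A} (ha : a ∈ WL q β m) : a ∈ WR q β m := by
  suffices hs : ∀ z ∈ P q β m m, a * z ∈ WR q β m by simpa using hs 1 (h.one_mem_P m)
  intro z hz
  refine Submodule.mul_induction_on hz (fun y hy x hx => ?_) fun x y hx hy => by rw [mul_add]; exact add_mem hx hy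
  have h2 : a * x ∈ WR q β 1 := h.WR_of_WL (by rw [← mul_inv_cancel m]; exact h.mul_mem_WL ha hx.1)
  have h3 := h.mul_mem_WR h2 hy.2
  rw [one_mul] at h3
  rwa [show a * (y * x) = a * x * y by ring]

theorem CExt.WL_of_WR' (h : CExt q β ψ) {m : M} {a : A} (ha : a ∈ WR q β m) : a ∈ WL q β m := by
  suffices hs : ∀ z ∈ P q β m m, a * z ∈ WL q β m by simpa using hs 1 (h.one_mem_P m)
  intro z hz
  refine Submodule.mul_induction_on hz (fun y hy x hx => ?_) fun x y hx hy => by rw [mul_add]; exact add_mem hx hy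
  have h2 : a * x ∈ WL q β 1 := h.WL_of_WR (by rw [← mul_inv_cancel m]; exact h.mul_mem_WR ha hx.2)
  have h3 := h.mul_mem_WL h2 hy.1
  rw [one_mul] at h3
  rwa [show a * (y * x) = a * x * y by ring]

/-- The weight spaces are subcoalgebras: stability under the left action. -/
theorem CExt.actR_mem (h : CExt q β ψ) {m : M} {a : A} (g : A →ₗ[k] k) (ha : a ∈ WR q β m) :
    actR g a ∈ WR q β m :=
  h.WR_of_WL' (actR_mem_WL g h.toDiag (h.WL_of_WR' ha))

end Groth.Agent.MultUnip
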