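import Groth.Agent.MultUnipLib.Central
import Groth.Agent.UnipHopfLib.Alg
import Mathlib.Data.Matrix.Basis
import Mathlib.LinearAlgebra.Eigenspace.Triangularizable
import Mathlib.LinearAlgebra.Matrix.ToLin
import Mathlib.RingTheory.Artinian.Module
import Mathlib.FieldTheory.IsAlgClosed.Basic

/-!
Group-like elements in the weight spaces.
-/

set_option autoImplicit false

noncomputable section

universe u

open TensorProduct ComodLib

namespace Groth.Agent.MultUnip

variable {k : Type u} [Field k] {A : Type u} [CommRing A] [HopfAlgebra k A]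
  {C : Type u} [CommRing C] [HopfAlgebra k C]
  {H : Type u} [CommRing H] [HopfAlgebra k H] {M : Type u} [CommGroup M]
  {q : A →ₐc[k] H} {β : Module.Basis M k H} {ψ : C →ₐc[k] A}

/-- A root of a polynomial in a connected reduced algebra over an algebraically closed field is a scalar. -/
theorem exists_scalar_of_root [IsAlgClosed k] [IsReduced C] [Nontrivial C]
    (hconn : ∀ e : C, IsIdempotentElem e → e = 0 ∨ e = 1) {c : C} {P : Polynomial k} (hP : P ≠ 0)
    (h : Polynomial.aeval c P = 0) : ∃ t : k, c = algebraMap k C t := by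
  have hi : IsIntegral k c := (IsAlgebraic.isIntegral ⟨P, hP, h⟩)
  let R := Algebra.adjoin k ({c} : Set C)
  haveI : Module.Finite k R := Module.Finite.iff_fg.2 hi.fg_adjoin_singleton
  haveI : IsArtinianRing R := IsArtinianRing.of_finite k R
  haveI : IsReduced R := isReduced_of_injective R.val Subtype.val_injective
  have hdom : ∀ x : R, x = 0 ∨ IsUnit x := by
    intro x
    obtain ⟨n, hn⟩ := IsArtinian.exists_pow_succ_smul_dvd x (1 : R)
    obtain ⟨y, hy⟩ := hn
    rcases eq_or_ne n 0 with rfl | hn0
    · exact Or.inr (IsUnit.of_mul_eq_one y (by simpa [smul_eq_mul, mul_comm] using hy))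
    have hn' : x ^ n = x ^ (n + 1) * y := by simpa [smul_eq_mul, mul_comm] using hy.symm
    have hx : (x * (1 - x * y)) ^ n = 0 := by
      have h0 : x ^ n * (1 - x * y) = 0 := by rw [mul_sub, mul_one, ← mul_assoc, ← pow_succ, ← hn', sub_self]
      obtain ⟨m, rfl⟩ : ∃ m, n = m + 1 := ⟨n - 1, by omega⟩
      rw [mul_pow, pow_succ (1 - x * y), ← mul_assoc, mul_right_comm, h0, zero_mul]
    have hx' : x * (1 - x * y) = 0 := IsReduced.eq_zero _ ⟨n, hx⟩
    have he : IsIdempotentElem (x * y : R) := by
      show x * y * (x * y) = x * y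
      linear_combination (-y) * hx'
    rcases hconn _ (he.map R.val) with h0 | h1
    · refine Or.inl ?_
      have h0' : x * y = 0 := Subtype.ext h0
      rwa [h0', sub_zero, mul_one] at hx'
    · exact Or.inr (IsUnit.of_mul_eq_one y (Subtype.ext h1))
  letI : IsDomain R := @IsField.isDomain R _ ⟨exists_pair_ne R, mul_comm, fun {x} hx =>
    ((hdom x).resolve_left hx).exists_right_inv⟩
  obtain ⟨t, ht⟩ := (IsAlgClosed.algebraMap_bijective_of_isIntegral (k := k) (K := R)).2
    ⟨c, Algebra.self_mem_adjoin_singleton k c⟩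
  exact ⟨t, (congrArg Subtype.val ht).symm⟩

/-- A matrix corepresentation with entries of weight `m`. -/
structure IsCorep (q : A →ₐc[k] H) (β : Module.Basis M k H) (m : M) {n : ℕ} (a : Matrix (Fin n) (Fin n) A) : Prop where
  comul : ∀ i j, CoalgebraStruct.comul (R := k) (a i j) = ∑ l, a i l ⊗ₜ[k] a l j
  counit : ∀ i j, CoalgebraStruct.counit (R := k) (a i j) = if i = j then 1 else 0
  mem : ∀ i j, a i j ∈ WR q β m

theorem CExt.exists_corep (h : CExt q β ψ) (m : M) :
    ∃ (n : ℕ) (a : Matrix (Fin n) (Fin n) A), 0 < n ∧ IsCorep q β m a := by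
  classical
  obtain ⟨a₀, ha₀, hε⟩ := h.exists_counit_one m
  let V : Submodule k A := Submodule.span k (Set.range fun f : A →ₗ[k] k => actR f a₀)
  have hVW : V ≤ WR q β m := Submodule.span_le.2 fun _ ⟨f, hf⟩ => hf ▸ h.actR_mem f ha₀
  have ha₀V : a₀ ∈ V := Submodule.subset_span
    ⟨CoalgebraStruct.counit (R := k), slice_counit (V := A) a₀⟩
  have hstab : ∀ (f : A →ₗ[k] k), ∀ v ∈ V, actR f v ∈ V := by
    intro f v hv
    have hle : V ≤ V.comap (actR f) := Submodule.span_le.2 fun _ ⟨g, hg⟩ => by
      refine Submodule.subset_span ⟨(WithConv.toConv f * WithConv.toConv g).ofConv, ?_⟩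
      rw [← hg]
      exact (slice_coact_mul (V := A) (WithConv.toConv f) (WithConv.toConv g) a₀).symm
    exact hle hv
  haveI : FiniteDimensional k V := by
    obtain ⟨S, hS, hS'⟩ := exists_fg_smul_mem (k := k) (A := A) (V := A) a₀
    haveI : FiniteDimensional k S := Module.Finite.iff_fg.2 hS
    exact Submodule.finiteDimensional_of_le (S₂ := S)
      (Submodule.span_le.2 fun _ ⟨f, hf⟩ => hf ▸ hS' (WithConv.toConv f))
  let b := Module.finBasis k V
  obtain ⟨π, hπ⟩ := LinearMap.exists_leftInverse_of_injective V.subtype (Submodule.ker_subtype V)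
  let c : Fin (Module.finrank k V) → A →ₗ[k] k := fun i => b.coord i ∘ₗ π
  have hπ' : ∀ v : V, π (v : A) = v := fun v => LinearMap.congr_fun hπ v
  have hexp : ∀ v ∈ V, CoalgebraStruct.comul (R := k) v =
      ∑ l, (b l : A) ⊗ₜ[k] sliceL (c l) (CoalgebraStruct.comul (R := k) v) := by
    intro v hv
    refine ext_slice fun f => ?_
    have hmem : actR f v ∈ V := hstab f v hv
    rw [map_sum]
    simp only [slice_tmul, apply_slice]
    show actR f v = ∑ l, _ • (b l : A)
    have h1 : ∀ l, f (sliceL (c l) (CoalgebraStruct.comul (R := k) v)) = b.repr ⟨actR f v, hmem⟩ l := fun l => by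
      rw [← apply_slice (g := c l)]
      show b.coord l (π (actR f v)) = _
      rw [show π (actR f v) = π ((⟨actR f v, hmem⟩ : V) : A) from rfl, hπ']
      rfl
    simp only [h1]
    have h2 := (congrArg V.subtype (b.sum_repr ⟨actR f v, hmem⟩)).symm
    rw [map_sum] at h2
    exact h2
  refine ⟨_, fun i j => sliceL (c i) (CoalgebraStruct.comul (R := k) (b j : A)), ?_, ?_, ?_, ?_⟩
  · rw [Module.finrank_pos_iff_exists_ne_zero]
    refine ⟨⟨a₀, ha₀V⟩, fun e => ?_⟩
    rw [show a₀ = 0 from congrArg Subtype.val e] at hε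
    simp at hε
  · intro i j
    show CoalgebraStruct.comul (R := k) (actL (c i) (b j : A)) = _
    rw [comul_actL]
    conv_lhs => rw [hexp _ (b j).2, map_sum]
    rfl
  · intro i j
    show CoalgebraStruct.counit (R := k) (sliceL (c i) _) = _
    rw [← apply_slice, show slice (CoalgebraStruct.counit (R := k)) (CoalgebraStruct.comul (R := k) (b j : A)) = b j
      from slice_counit (V := A) _]
    show b.coord i (π (b j : A)) = _
    rw [hπ', Module.Basis.coord_apply, Module.Basis.repr_self, Finsupp.single_apply]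
    simp [eq_comm]
  · intro i j
    exact actL_mem_WR _ h.toDiag (hVW (b j).2)

theorem slice_sub_smul {V : Type*} [AddCommGroup V] [Module k V] (f g : A →ₗ[k] k) (r : k) (z : V ⊗[k] A) :
    slice (f - r • g) z = slice f z - r • slice g z := by
  simp [slice, LinearMap.lTensor_sub, LinearMap.lTensor_smul]

theorem mulVec_map_scalar {n : ℕ} (X : Matrix (Fin n) (Fin n) k) (v : Fin n → k) :
    (X.map (algebraMap k A)).mulVec (algebraMap k A ∘ v) = algebraMap k A ∘ X.mulVec v :=
  funext fun i => (RingHom.map_mulVec (algebraMap k A) X v i).symm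

/-- Matrices commuting with an irreducible corepresentation are scalars. -/
theorem scalar_of_commute [IsAlgClosed k] {m : M} {n : ℕ} {a : Matrix (Fin n) (Fin n) A} (ha : IsCorep q β m a)
    (hn : 0 < n) (hmin : ∀ r (b : Matrix (Fin r) (Fin r) A), 0 < r → r < n → ¬ IsCorep q β m b)
    {X : Matrix (Fin n) (Fin n) k} (hX : a * X.map (algebraMap k A) = X.map (algebraMap k A) * a) :
    ∃ t : k, X = t • 1 := by
  haveI : Nonempty (Fin n) := ⟨⟨0, hn⟩⟩
  obtain ⟨μ, hμ⟩ := Module.End.exists_eigenvalue (Matrix.toLin' X)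
  refine ⟨μ, ?_⟩
  let Y := X - μ • (1 : Matrix (Fin n) (Fin n) k)
  have hY : a * Y.map (algebraMap k A) = Y.map (algebraMap k A) * a := by
    have h1 : Y.map (algebraMap k A) = X.map (algebraMap k A) - μ • (1 : Matrix (Fin n) (Fin n) A) := by
      rw [show Y.map (algebraMap k A) = (Algebra.ofId k A).mapMatrix Y from rfl, map_sub, map_smul, map_one]
      rfl
    rw [h1, mul_sub, sub_mul, hX]
    simp
  let Kr := LinearMap.ker (Matrix.toLin' Y)
  have hK0 : Kr ≠ ⊥ := by
    obtain ⟨v, hv⟩ := hμ.exists_hasEigenvector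
    intro e
    refine hv.2 ?_
    have : v ∈ Kr := by
      show Matrix.toLin' Y v = 0
      simp only [Y, map_sub, map_smul, Matrix.toLin'_one, LinearMap.sub_apply, LinearMap.smul_apply,
        LinearMap.id_apply, hv.apply_eq_smul, sub_self]
    rwa [e, Submodule.mem_bot] at this
  by_contra hne
  have hlt : Module.finrank k Kr < n := by
    have h1 : Kr ≠ ⊤ := fun e => hne <| sub_eq_zero.1 <|
      (Matrix.toLin' (R := k)).injective ((LinearMap.ker_eq_top.1 e).trans (map_zero _).symm)
    simpa using Submodule.finrank_lt h1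
  have hpos : 0 < Module.finrank k Kr :=
    Module.finrank_pos_iff_exists_ne_zero.2 (by
      obtain ⟨v, hv, hv0⟩ := Submodule.exists_mem_ne_zero_of_ne_bot hK0
      exact ⟨⟨v, hv⟩, fun e => hv0 (congrArg Subtype.val e)⟩)
  let b := Module.finBasis k Kr
  obtain ⟨π, hπ⟩ := LinearMap.exists_leftInverse_of_injective Kr.subtype (Submodule.ker_subtype Kr)
  have hπ' : ∀ v : Kr, π (v : Fin n → k) = v := fun v => LinearMap.congr_fun hπ v
  let r := Module.finrank k Kr
  let K₀ : Matrix (Fin n) (Fin r) k := LinearMap.toMatrix b (Pi.basisFun k (Fin n)) Kr.subtype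
  let L₀ : Matrix (Fin r) (Fin n) k := LinearMap.toMatrix (Pi.basisFun k (Fin n)) b π
  let P₀ : Matrix (Fin n) (Fin n) k := K₀ * L₀
  have hLK : L₀ * K₀ = 1 := by
    rw [← LinearMap.toMatrix_comp, hπ, LinearMap.toMatrix_id]
  have hYK : Y * K₀ = 0 := by
    have hYm : Y = LinearMap.toMatrix (Pi.basisFun k (Fin n)) (Pi.basisFun k (Fin n)) (Matrix.toLin' Y) := by
      rw [LinearMap.toMatrix_eq_toMatrix', LinearMap.toMatrix'_toLin']
    rw [hYm, ← LinearMap.toMatrix_comp, LinearMap.comp_ker_subtype, map_zero]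
  have hfix : ∀ z : Fin n → k, Matrix.mulVec Y z = 0 → P₀.mulVec z = z := by
    intro z hz
    have hP : P₀ = LinearMap.toMatrix (Pi.basisFun k (Fin n)) (Pi.basisFun k (Fin n)) (Kr.subtype ∘ₗ π) :=
      (LinearMap.toMatrix_comp _ b _ _ _).symm
    rw [hP, LinearMap.toMatrix_eq_toMatrix', ← Matrix.toLin'_apply, Matrix.toLin'_toMatrix']
    exact congrArg Subtype.val (hπ' ⟨z, (Matrix.toLin'_apply Y z).trans hz⟩)
  let K : Matrix (Fin n) (Fin r) A := K₀.map (algebraMap k A)
  let L : Matrix (Fin r) (Fin n) A := L₀.map (algebraMap k A)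
  have hker : ∀ z : Fin n → A, (Y.map (algebraMap k A)).mulVec z = 0 → (P₀.map (algebraMap k A)).mulVec z = z := by
    intro z hz
    have hs : ∀ (Z : Matrix (Fin n) (Fin n) k) (φ : A →ₗ[k] k) i,
        φ ((Z.map (algebraMap k A)).mulVec z i) = Z.mulVec (φ ∘ z) i := fun Z φ i => by
      simp only [Matrix.mulVec, dotProduct, map_sum, Matrix.map_apply, ← Algebra.smul_def, map_smul, smul_eq_mul,
        Function.comp_apply]
    refine funext fun i => (Module.forall_dual_apply_eq_zero_iff k _).1 (fun φ => ?_) |> sub_eq_zero.1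
    rw [map_sub, hs, hfix (φ ∘ z) (funext fun j => by rw [← hs, hz]; exact map_zero φ)]
    exact sub_self _
  have hinv : a * K = K * (L * a * K) := by
    have h0 : Y.map (algebraMap k A) * (a * K) = 0 := by
      rw [← Matrix.mul_assoc, ← hY, Matrix.mul_assoc,
        show Y.map (algebraMap k A) * K = (Y * K₀).map (algebraMap k A) from (Matrix.map_mul).symm, hYK]
      simp
    have h1 : P₀.map (algebraMap k A) * (a * K) = a * K := Matrix.ext fun i j =>
      congrFun (hker (fun l => (a * K) l j) (funext fun i' => by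
        have := congrFun (congrFun h0 i') j
        exact this)) i
    rw [← Matrix.mul_assoc, ← Matrix.mul_assoc,
      show K * L = P₀.map (algebraMap k A) from (Matrix.map_mul).symm, Matrix.mul_assoc, h1]
  let b' : Matrix (Fin r) (Fin r) A := L * a * K
  have hab : ∀ l j, (a * K) l j = ∑ p, K₀ l p • b' p j := fun l j => by
    rw [hinv, Matrix.mul_apply]
    exact Finset.sum_congr rfl fun p _ => (Algebra.smul_def _ _).symm
  have hbdef : ∀ i j, b' i j = ∑ l, ∑ s, (L₀ i s * K₀ l j) • a s l := fun i j => by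
    simp only [b', L, K, Matrix.mul_apply, Matrix.map_apply, Finset.sum_mul, Algebra.smul_def, map_mul]
    exact Finset.sum_congr rfl fun l _ => Finset.sum_congr rfl fun s _ => by ring
  refine hmin r b' hpos hlt ⟨fun i j => ?_, fun i j => ?_, fun i j => ?_⟩
  · rw [hbdef, map_sum]
    simp only [map_sum, map_smul, ha.comul, Finset.smul_sum]
    have h2 : ∀ t, (∑ s, L₀ i s • a s t) ⊗ₜ[k] (a * K) t j = ∑ p, (∑ s, (L₀ i s * K₀ t p) • a s t) ⊗ₜ[k] b' p j := by
      intro t
      rw [hab, TensorProduct.tmul_sum]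
      refine Finset.sum_congr rfl fun p _ => ?_
      rw [← TensorProduct.smul_tmul, Finset.smul_sum]
      exact congrArg (· ⊗ₜ[k] b' p j) (Finset.sum_congr rfl fun s _ => by rw [smul_smul, mul_comm])
    calc _ = ∑ t, (∑ s, L₀ i s • a s t) ⊗ₜ[k] (a * K) t j := by
          simp only [K, Matrix.mul_apply, Matrix.map_apply, TensorProduct.sum_tmul, TensorProduct.tmul_sum,
            TensorProduct.smul_tmul', ← Algebra.commutes, ← Algebra.smul_def, TensorProduct.tmul_smul, smul_smul,
            mul_comm (K₀ _ j), Finset.smul_sum]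
          rw [Finset.sum_congr rfl fun l _ => Finset.sum_comm, Finset.sum_comm]
      _ = ∑ p, b' i p ⊗ₜ[k] b' p j := by
          rw [Finset.sum_congr rfl fun t _ => h2 t, Finset.sum_comm]
          refine Finset.sum_congr rfl fun p _ => ?_
          rw [← TensorProduct.sum_tmul, ← hbdef]
  · rw [hbdef]
    simp only [map_sum, map_smul, ha.counit, smul_eq_mul, mul_ite, mul_one, mul_zero, Finset.sum_ite_eq',
      Finset.mem_univ, if_true]
    have := congrFun (congrFun hLK i) j
    rwa [Matrix.mul_apply, Matrix.one_apply] at this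
  · rw [hbdef]
    exact sum_mem fun l _ => sum_mem fun s _ => Submodule.smul_mem _ _ (ha.mem s l)

/-- Every weight carries a group-like element. -/
theorem CExt.exists_groupLike [IsAlgClosed k] [IsReduced C] [Nontrivial C] (h : CExt q β ψ)
    (hK : ∀ c : C, ∃ s, c ∈ UnipHopf.K k C s) (m : M) :
    ∃ g ∈ WR q β m, IsGroupLikeElem k g := by
  classical
  have hex : ∃ n, 0 < n ∧ ∃ a : Matrix (Fin n) (Fin n) A, IsCorep q β m a := by
    obtain ⟨n, a, hn, ha⟩ := h.exists_corep m
    exact ⟨n, hn, a, ha⟩
  obtain ⟨hn, a, ha⟩ := Nat.find_spec hex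
  have hmin : ∀ r (b : Matrix (Fin r) (Fin r) A), 0 < r → r < Nat.find hex → ¬ IsCorep q β m b :=
    fun r b hr hlt hb => Nat.find_min hex hlt ⟨hr, b, hb⟩
  generalize Nat.find hex = n at hn a ha hmin
  suffices h1 : n = 1 by
    subst h1
    refine ⟨a 0 0, ha.mem 0 0, ⟨by simpa using ha.counit 0 0, ?_⟩⟩
    exact (ha.comul 0 0).trans (by simp)
  let N : Matrix (Fin n) (Fin n) A := a.map (HopfAlgebraStruct.antipode (R := k))
  have haN : a * N = 1 := Matrix.ext fun i j => by
    have h1 := HopfAlgebra.mul_antipode_lTensor_comul_apply (R := k) (a i j)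
    rw [ha.comul, map_sum, map_sum, ha.counit] at h1
    simp only [LinearMap.lTensor_tmul, LinearMap.mul'_apply, apply_ite, map_one, map_zero] at h1
    rw [Matrix.mul_apply, Matrix.one_apply]
    split_ifs at h1 ⊢ <;> exact h1
  have hNa : N * a = 1 := mul_eq_one_comm.1 haN
  let ι := (Algebra.ofId k A).mapMatrix (m := Fin n)
  let Φ : Matrix (Fin n) (Fin n) k →ₐ[k] Matrix (Fin n) (Fin n) A :=
    AlgHom.ofLinearMap
      (LinearMap.mulLeft k a ∘ₗ LinearMap.mulRight k N ∘ₗ ι.toLinearMap)
      (by
        show a * (ι 1 * N) = 1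
        rw [map_one, one_mul, haN])
      fun X Y => by
        show a * (ι (X * Y) * N) = a * (ι X * N) * (a * (ι Y * N))
        rw [map_mul, show a * (ι X * N) * (a * (ι Y * N)) = a * (ι X * (N * a) * (ι Y * N)) by noncomm_ring,
          hNa, mul_one, mul_assoc (ι X)]
  have hΦ : ∀ X i j, Φ X i j = ∑ p, ∑ l, X l p • (a i l * N p j) := fun X i j => by
    show (a * (ι X * N)) i j = _
    simp only [Matrix.mul_apply, Finset.mul_sum, ι, AlgHom.mapMatrix_apply, Matrix.map_apply, Algebra.smul_def,
      Algebra.ofId_apply]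
    rw [Finset.sum_comm]
    exact Finset.sum_congr rfl fun p _ => Finset.sum_congr rfl fun l _ => by ring
  have hC : ∀ X i j, Φ X i j ∈ WR q β 1 := fun X i j => by
    rw [hΦ]
    refine sum_mem fun p _ => sum_mem fun l _ => Submodule.smul_mem _ _ ?_
    rw [← mul_inv_cancel m]
    exact h.mul_mem_WR (ha.mem i l) (h.antipode_mem_WR (h.WL_of_WR' (ha.mem p j)))
  have hKA : ∀ X, ∃ s, ∀ i j, Φ X i j ∈ UnipHopf.K k A s := by
    intro X
    have h1 : ∀ i j, ∃ s, Φ X i j ∈ UnipHopf.K k A s := fun i j => by
      obtain ⟨c, hc⟩ := h.coinv _ (hC X i j)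
      rw [← hc]
      exact (hK c).imp fun s hs => UnipHopf.map_mem_K ψ hs
    choose s hs using h1
    exact ⟨Finset.univ.sup fun p : Fin n × Fin n => s p.1 p.2,
      fun i j => UnipHopf.K_mono (Finset.le_sup (f := fun p : Fin n × Fin n => s p.1 p.2)
        (Finset.mem_univ (i, j))) (hs i j)⟩
  have hεΦ : ∀ X i j, CoalgebraStruct.counit (R := k) (Φ X i j) = X i j := fun X i j => by
    rw [hΦ]
    simp [N, ha.counit, apply_ite]
  have hcomm : ∀ X, Φ X = ι X → ∃ t : k, X = t • 1 := fun X hX => scalar_of_commute ha hn hmin (by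
    have h2 : a * (ι X * N) * a = ι X * a := congrArg (· * a) hX
    rw [mul_assoc, mul_assoc, hNa, mul_one] at h2
    exact h2)
  have hall : ∀ s X, (∀ i j, Φ X i j ∈ UnipHopf.K k A s) → ∃ t : k, X = t • 1 := by
    intro s
    induction s with
    | zero =>
      intro X hX
      refine ⟨0, Matrix.ext fun i j => ?_⟩
      have h1 := hεΦ X i j
      rw [show Φ X i j = 0 from (Submodule.mem_bot k).1 (hX i j)] at h1
      simp [← h1]
    | succ s ih =>
      intro X hX
      -- the coefficient matrices
      let T : (A →ₗ[k] k) → Matrix (Fin n) (Fin n) k := fun f i j => f (Φ X i j)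
      have hΔ : ∀ i j, CoalgebraStruct.comul (R := k) (Φ X i j) = ∑ p, ∑ l, (a i l * N p j) ⊗ₜ[k] Φ X l p := by
        intro i j
        simp only [hΦ, map_sum, map_smul, Bialgebra.comul_mul, ha.comul, N, Matrix.map_apply, comul_antipode',
          TensorProduct.comm_tmul, TensorProduct.map_tmul, Finset.sum_mul, Finset.mul_sum,
          Algebra.TensorProduct.tmul_mul_tmul, Finset.smul_sum, TensorProduct.tmul_sum, ← TensorProduct.tmul_smul]
        refine (Finset.sum_congr rfl fun b _ => Finset.sum_comm).trans (Finset.sum_comm.trans ?_)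
        refine Finset.sum_congr rfl fun p _ => ?_
        exact (Finset.sum_congr rfl fun b _ => Finset.sum_comm).trans Finset.sum_comm
      have hT : ∀ f i j, Φ (T f) i j = actR f (Φ X i j) := fun f i j => by
        show _ = slice f (CoalgebraStruct.comul (R := k) (Φ X i j))
        rw [hΔ, hΦ]
        simp [T, map_sum]
      have hscal : ∀ f : A →ₗ[k] k, ∃ t : k, T f = f 1 • X + t • 1 := by
        intro f
        obtain ⟨t, ht⟩ := ih (T f - f 1 • X) fun i j => by
          rw [map_sub, map_smul, Matrix.sub_apply, Matrix.smul_apply, hT]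
          have h1 := UnipHopf.mem_K_succ.1 (hX i j) (WithConv.toConv (f - f 1 • CoalgebraStruct.counit (R := k)))
            (by simp [Bialgebra.counit_one])
          rw [smul_eq] at h1
          show slice f _ - _ ∈ _
          have h2 : slice (f - f 1 • CoalgebraStruct.counit (R := k)) (CoalgebraStruct.comul (R := k) (Φ X i j)) =
              slice f (CoalgebraStruct.comul (R := k) (Φ X i j)) - f 1 • Φ X i j := by
            rw [slice_sub_smul]
            congr 2
            exact slice_counit (V := A) _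
          rw [← h2]
          exact h1
        exact ⟨t, by rw [← ht]; abel⟩
      let i₀ : Fin n := ⟨0, hn⟩
      let χ : A := Φ X i₀ i₀ - algebraMap k A (X i₀ i₀)
      have hχ : Φ X = ι X + χ • 1 := Matrix.ext fun i j => by
        refine sub_eq_zero.1 <| (Module.forall_dual_apply_eq_zero_iff k _).1 fun f => ?_
        obtain ⟨t, ht⟩ := hscal f
        have h1 : f (Φ X i j) = (f 1 • X + t • (1 : Matrix (Fin n) (Fin n) k)) i j := congrFun (congrFun ht i) j
        have h0 : f (Φ X i₀ i₀) = (f 1 • X + t • (1 : Matrix (Fin n) (Fin n) k)) i₀ i₀ :=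
          congrFun (congrFun ht i₀) i₀
        have hf : ∀ r : k, f (algebraMap k A r) = r * f 1 := fun r => by
          rw [Algebra.algebraMap_eq_smul_one, map_smul, smul_eq_mul]
        by_cases e : i = j
        · subst e
          simp only [Matrix.add_apply, Matrix.smul_apply, Matrix.one_apply_eq, smul_eq_mul, mul_one] at h1 h0
          simp only [map_sub, Matrix.add_apply, Matrix.smul_apply, Matrix.one_apply_eq, smul_eq_mul, mul_one, χ,
            map_add, ι, AlgHom.mapMatrix_apply, Matrix.map_apply, Algebra.ofId_apply, hf]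
          rw [h1, h0]
          ring
        · simp only [Matrix.add_apply, Matrix.smul_apply, Matrix.one_apply_ne e, smul_eq_mul, mul_zero, add_zero] at h1
          simp only [map_sub, Matrix.add_apply, Matrix.smul_apply, Matrix.one_apply_ne e, smul_eq_mul, mul_zero,
            add_zero, ι, AlgHom.mapMatrix_apply, Matrix.map_apply, Algebra.ofId_apply, hf]
          rw [h1]
          ring
      -- the translation is a root of a polynomial
      haveI : Nonempty (Fin n) := ⟨i₀⟩
      obtain ⟨μ, hμ⟩ := Module.End.exists_eigenvalue (Matrix.toLin' X)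
      obtain ⟨v, hv⟩ := hμ.exists_hasEigenvector
      obtain ⟨j₀, hj₀⟩ : ∃ j, v j ≠ 0 := Function.ne_iff.1 hv.2
      have hP := minpoly.aeval k X
      have hne : minpoly k X ≠ 0 := minpoly.ne_zero (Matrix.isIntegral X)
      let w : Fin n → A := algebraMap k A ∘ v
      have hw : (ι X + χ • 1).mulVec w = (algebraMap k A μ + χ) • w := by
        rw [Matrix.add_mulVec, Matrix.smul_mulVec, Matrix.one_mulVec,
          show (ι X).mulVec w = algebraMap k A ∘ X.mulVec v from mulVec_map_scalar X v,
          show X.mulVec v = μ • v from (Matrix.toLin'_apply X v).symm.trans hv.apply_eq_smul, add_smul]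
        congr 1
        exact funext fun i => by simp [w]
      have hpow : ∀ d : ℕ, ((ι X + χ • 1) ^ d).mulVec w = (algebraMap k A μ + χ) ^ d • w := fun d => by
        induction d with
        | zero => simp
        | succ d ihd => rw [pow_succ', ← Matrix.mulVec_mulVec, ihd, Matrix.mulVec_smul, hw, smul_smul, pow_succ]
      have hev : ∀ P : Polynomial k, (Polynomial.aeval (ι X + χ • 1) P).mulVec w =
          Polynomial.aeval (algebraMap k A μ + χ) P • w := fun P => by
        induction P using Polynomial.induction_on' with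
        | add P Q hP hQ => rw [map_add, map_add, Matrix.add_mulVec, hP, hQ, add_smul]
        | monomial d r =>
          rw [Polynomial.aeval_monomial, Polynomial.aeval_monomial, ← Algebra.smul_def, ← Algebra.smul_def,
            Matrix.smul_mulVec, hpow, smul_assoc]
      have h0 : Polynomial.aeval (algebraMap k A μ + χ) (minpoly k X) = 0 := by
        have h1 := hev (minpoly k X)
        rw [← hχ, Polynomial.aeval_algHom_apply, hP, map_zero, Matrix.zero_mulVec] at h1
        have h2 := congrFun h1 j₀
        rw [Pi.smul_apply, smul_eq_mul, Pi.zero_apply] at h2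
        have hu : IsUnit (w j₀) := (Ne.isUnit hj₀).map (algebraMap k A)
        exact (hu.mul_left_eq_zero.1 h2.symm)
      obtain ⟨c₁, hc₁⟩ := h.coinv _ (hC X i₀ i₀)
      have hψc : ψ (c₁ - algebraMap k C (X i₀ i₀)) = χ := by
        rw [map_sub, hc₁, AlgHomClass.commutes]
      obtain ⟨t, ht⟩ := exists_scalar_of_root h.conn hne (c := algebraMap k C μ + (c₁ - algebraMap k C (X i₀ i₀)))
        (h.inj (by
          rw [map_zero, ← Polynomial.aeval_algHom_apply, map_add, AlgHomClass.commutes, hψc, h0]))
      have hχ' : χ = algebraMap k A (t - μ) := by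
        rw [← hψc, show c₁ - algebraMap k C (X i₀ i₀) = algebraMap k C (t - μ) by rw [map_sub, ← ht]; ring,
          AlgHomClass.commutes]
      have hχ0 : χ = 0 := by
        have h1 : CoalgebraStruct.counit (R := k) χ = 0 := by simp [χ, hεΦ]
        rw [hχ', Bialgebra.counit_algebraMap] at h1
        rw [hχ', h1, map_zero]
      exact hcomm X (by rw [hχ, hχ0, zero_smul, add_zero])
  by_contra hne
  obtain ⟨s, hs⟩ := hKA (Matrix.single (⟨0, hn⟩ : Fin n) ⟨0, hn⟩ 1)
  obtain ⟨t, ht⟩ := hall s _ hs
  have h1 := congrFun (congrFun ht ⟨1, by omega⟩) ⟨1, by omega⟩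
  have h2 := congrFun (congrFun ht ⟨0, hn⟩) ⟨0, hn⟩
  simp [Matrix.single_apply] at h1 h2
  rw [← h1] at h2
  exact zero_ne_one h2.symm

end Groth.Agent.MultUnip
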